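import Cfsg.Agent.Lib.Fischer.Basic

/-!
The closure of four involutions which pairwise braid (a set of 3-transpositions of width one) has at
most 81 points: it is an image of the free commutative Moufang loop of exponent 3 on three generators.
Generated certificate: each line is an automorphic image of earlier lines.
-/
set_option autoImplicit false

namespace CfsgLib.Fischer.FreeLoop

variable {G : Type*} [Group G]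

/-- `{a, b, c}` is a line of the width-one system `w`. -/
structure Line (w : W1 G) (a b c : G) : Prop where
  ha : a ∈ w.D
  hb : b ∈ w.D
  hc : c ∈ w.D
  eq : a * b * a = c

variable {w : W1 G} {a b c b' c' e e' z z' : G}

theorem Line.idem (h : a ∈ w.D) : a * a * a = a := by rw [w.sq a h, one_mul]

theorem Line.p012 (h : Line w a b c) : Line w a b c := h

theorem Line.p021 (h : Line w a b c) : Line w a c b :=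
  ⟨h.ha, h.hc, h.hb, by rw [← h.eq]; simp only [← mul_assoc, w.sq a h.ha, one_mul]; rw [mul_assoc, w.sq a h.ha, mul_one]⟩

theorem Line.p102 (h : Line w a b c) : Line w b a c :=
  ⟨h.hb, h.ha, h.hc, by rw [← w.braid a h.ha b h.hb, h.eq]⟩

theorem Line.p120 (h : Line w a b c) : Line w b c a := h.p102.p021
theorem Line.p201 (h : Line w a b c) : Line w c a b := h.p021.p102
theorem Line.p210 (h : Line w a b c) : Line w c b a := h.p120.p102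

theorem Line.img (h1 : Line w a b b') (h2 : Line w a c c') (h3 : Line w b c e) (h4 : Line w a e e') :
    Line w b' c' e' :=
  ⟨h1.hc, h2.hc, h4.hc, by
    rw [← h1.eq, ← h2.eq, ← h4.eq, ← h3.eq]
    have ha := w.sq a h1.ha
    calc a * b * a * (a * c * a) * (a * b * a) = a * b * (a * a) * c * (a * a) * b * a := by group
      _ = a * (b * c * b) * a := by rw [ha]; group⟩

theorem Line.pre (h1 : Line w a c c') (h2 : Line w a e e') (h3 : Line w c e z)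
    (h4 : Line w c' e' z') : Line w a z z' :=
  ⟨h1.ha, h3.hc, h4.hc, by
    rw [← h4.eq, ← h1.eq, ← h2.eq, ← h3.eq]
    have ha := w.sq a h1.ha
    calc a * (c * e * c) * a = a * c * (a * a) * e * (a * a) * c * a := by rw [ha]; group
      _ = a * c * a * (a * e * a) * (a * c * a) := by group⟩

def q0 (s : Fin 4 → G) : G := s 0
def q27 (s : Fin 4 → G) : G := s 1
def q9 (s : Fin 4 → G) : G := s 2
def q3 (s : Fin 4 → G) : G := s 3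
def q54 (s : Fin 4 → G) : G := s 1 * q0 s * s 1
def q18 (s : Fin 4 → G) : G := s 2 * q0 s * s 2
def q6 (s : Fin 4 → G) : G := s 3 * q0 s * s 3
def q72 (s : Fin 4 → G) : G := s 2 * q27 s * s 2
def q60 (s : Fin 4 → G) : G := s 3 * q27 s * s 3
def q24 (s : Fin 4 → G) : G := s 3 * q9 s * s 3
def q45 (s : Fin 4 → G) : G := s 2 * q54 s * s 2
def q33 (s : Fin 4 → G) : G := s 3 * q54 s * s 3
def q63 (s : Fin 4 → G) : G := s 1 * q18 s * s 1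
def q15 (s : Fin 4 → G) : G := s 3 * q18 s * s 3
def q57 (s : Fin 4 → G) : G := s 1 * q6 s * s 1
def q21 (s : Fin 4 → G) : G := s 2 * q6 s * s 2
def q36 (s : Fin 4 → G) : G := s 0 * q72 s * s 0
def q43 (s : Fin 4 → G) : G := s 3 * q72 s * s 3
def q30 (s : Fin 4 → G) : G := s 0 * q60 s * s 0
def q50 (s : Fin 4 → G) : G := s 2 * q60 s * s 2
def q12 (s : Fin 4 → G) : G := s 0 * q24 s * s 0
def q66 (s : Fin 4 → G) : G := s 1 * q24 s * s 1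
def q71 (s : Fin 4 → G) : G := s 3 * q45 s * s 3
def q76 (s : Fin 4 → G) : G := s 2 * q33 s * s 2
def q53 (s : Fin 4 → G) : G := s 3 * q63 s * s 3
def q75 (s : Fin 4 → G) : G := s 1 * q15 s * s 1
def q52 (s : Fin 4 → G) : G := s 2 * q57 s * s 2
def q69 (s : Fin 4 → G) : G := s 1 * q21 s * s 1
def q79 (s : Fin 4 → G) : G := s 3 * q36 s * s 3
def q77 (s : Fin 4 → G) : G := s 0 * q43 s * s 0
def q80 (s : Fin 4 → G) : G := s 2 * q30 s * s 2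
def q70 (s : Fin 4 → G) : G := s 0 * q50 s * s 0
def q78 (s : Fin 4 → G) : G := s 1 * q12 s * s 1
def q51 (s : Fin 4 → G) : G := s 0 * q66 s * s 0
def q49 (s : Fin 4 → G) : G := s 0 * q71 s * s 0
def q22 (s : Fin 4 → G) : G := s 1 * q71 s * s 1
def q39 (s : Fin 4 → G) : G := s 2 * q71 s * s 2
def q44 (s : Fin 4 → G) : G := s 0 * q76 s * s 0
def q17 (s : Fin 4 → G) : G := s 1 * q76 s * s 1
def q67 (s : Fin 4 → G) : G := s 0 * q53 s * s 0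
def q40 (s : Fin 4 → G) : G := s 1 * q53 s * s 1
def q59 (s : Fin 4 → G) : G := s 2 * q53 s * s 2
def q42 (s : Fin 4 → G) : G := s 0 * q75 s * s 0
def q34 (s : Fin 4 → G) : G := s 2 * q75 s * s 2
def q68 (s : Fin 4 → G) : G := s 0 * q52 s * s 0
def q41 (s : Fin 4 → G) : G := s 1 * q52 s * s 1
def q64 (s : Fin 4 → G) : G := s 3 * q52 s * s 3
def q48 (s : Fin 4 → G) : G := s 0 * q69 s * s 0
def q47 (s : Fin 4 → G) : G := s 3 * q69 s * s 3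
def q14 (s : Fin 4 → G) : G := s 1 * q79 s * s 1
def q31 (s : Fin 4 → G) : G := s 2 * q79 s * s 2
def q16 (s : Fin 4 → G) : G := s 1 * q77 s * s 1
def q35 (s : Fin 4 → G) : G := s 2 * q77 s * s 2
def q13 (s : Fin 4 → G) : G := s 1 * q80 s * s 1
def q38 (s : Fin 4 → G) : G := s 3 * q80 s * s 3
def q23 (s : Fin 4 → G) : G := s 1 * q70 s * s 1
def q46 (s : Fin 4 → G) : G := s 3 * q70 s * s 3
def q32 (s : Fin 4 → G) : G := s 2 * q78 s * s 2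
def q37 (s : Fin 4 → G) : G := s 3 * q78 s * s 3
def q58 (s : Fin 4 → G) : G := s 2 * q51 s * s 2
def q65 (s : Fin 4 → G) : G := s 3 * q51 s * s 3
def q61 (s : Fin 4 → G) : G := s 2 * q49 s * s 2
def q8 (s : Fin 4 → G) : G := s 2 * q22 s * s 2
def q74 (s : Fin 4 → G) : G := s 3 * q44 s * s 3
def q19 (s : Fin 4 → G) : G := s 3 * q17 s * s 3
def q26 (s : Fin 4 → G) : G := s 1 * q67 s * s 1
def q7 (s : Fin 4 → G) : G := s 1 * q59 s * s 1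
def q73 (s : Fin 4 → G) : G := s 3 * q42 s * s 3
def q56 (s : Fin 4 → G) : G := s 3 * q34 s * s 3
def q25 (s : Fin 4 → G) : G := s 1 * q68 s * s 1
def q20 (s : Fin 4 → G) : G := s 1 * q64 s * s 1
def q62 (s : Fin 4 → G) : G := s 2 * q48 s * s 2
def q55 (s : Fin 4 → G) : G := s 2 * q47 s * s 2
def q5 (s : Fin 4 → G) : G := s 1 * q61 s * s 1
def q29 (s : Fin 4 → G) : G := s 3 * q61 s * s 3
def q4 (s : Fin 4 → G) : G := s 0 * q8 s * s 0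
def q1 (s : Fin 4 → G) : G := s 3 * q8 s * s 3
def q10 (s : Fin 4 → G) : G := s 1 * q74 s * s 1
def q28 (s : Fin 4 → G) : G := s 2 * q74 s * s 2
def q11 (s : Fin 4 → G) : G := s 0 * q19 s * s 0
def q2 (s : Fin 4 → G) : G := s 2 * q19 s * s 2

/-- The 81 points. -/
def pt (k : Fin 81) (s : Fin 4 → G) : G :=
  match k with
  | ⟨0, _⟩ => q0 s
  | ⟨1, _⟩ => q1 s
  | ⟨2, _⟩ => q2 s
  | ⟨3, _⟩ => q3 s
  | ⟨4, _⟩ => q4 s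
  | ⟨5, _⟩ => q5 s
  | ⟨6, _⟩ => q6 s
  | ⟨7, _⟩ => q7 s
  | ⟨8, _⟩ => q8 s
  | ⟨9, _⟩ => q9 s
  | ⟨10, _⟩ => q10 s
  | ⟨11, _⟩ => q11 s
  | ⟨12, _⟩ => q12 s
  | ⟨13, _⟩ => q13 s
  | ⟨14, _⟩ => q14 s
  | ⟨15, _⟩ => q15 s
  | ⟨16, _⟩ => q16 s
  | ⟨17, _⟩ => q17 s
  | ⟨18, _⟩ => q18 s
  | ⟨19, _⟩ => q19 s
  | ⟨20, _⟩ => q20 s
  | ⟨21, _⟩ => q21 s
  | ⟨22, _⟩ => q22 s
  | ⟨23, _⟩ => q23 s
  | ⟨24, _⟩ => q24 s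
  | ⟨25, _⟩ => q25 s
  | ⟨26, _⟩ => q26 s
  | ⟨27, _⟩ => q27 s
  | ⟨28, _⟩ => q28 s
  | ⟨29, _⟩ => q29 s
  | ⟨30, _⟩ => q30 s
  | ⟨31, _⟩ => q31 s
  | ⟨32, _⟩ => q32 s
  | ⟨33, _⟩ => q33 s
  | ⟨34, _⟩ => q34 s
  | ⟨35, _⟩ => q35 s
  | ⟨36, _⟩ => q36 s
  | ⟨37, _⟩ => q37 s
  | ⟨38, _⟩ => q38 s
  | ⟨39, _⟩ => q39 s
  | ⟨40, _⟩ => q40 s
  | ⟨41, _⟩ => q41 s
  | ⟨42, _⟩ => q42 s
  | ⟨43, _⟩ => q43 s
  | ⟨44, _⟩ => q44 s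
  | ⟨45, _⟩ => q45 s
  | ⟨46, _⟩ => q46 s
  | ⟨47, _⟩ => q47 s
  | ⟨48, _⟩ => q48 s
  | ⟨49, _⟩ => q49 s
  | ⟨50, _⟩ => q50 s
  | ⟨51, _⟩ => q51 s
  | ⟨52, _⟩ => q52 s
  | ⟨53, _⟩ => q53 s
  | ⟨54, _⟩ => q54 s
  | ⟨55, _⟩ => q55 s
  | ⟨56, _⟩ => q56 s
  | ⟨57, _⟩ => q57 s
  | ⟨58, _⟩ => q58 s
  | ⟨59, _⟩ => q59 s
  | ⟨60, _⟩ => q60 s
  | ⟨61, _⟩ => q61 s
  | ⟨62, _⟩ => q62 s
  | ⟨63, _⟩ => q63 s
  | ⟨64, _⟩ => q64 s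
  | ⟨65, _⟩ => q65 s
  | ⟨66, _⟩ => q66 s
  | ⟨67, _⟩ => q67 s
  | ⟨68, _⟩ => q68 s
  | ⟨69, _⟩ => q69 s
  | ⟨70, _⟩ => q70 s
  | ⟨71, _⟩ => q71 s
  | ⟨72, _⟩ => q72 s
  | ⟨73, _⟩ => q73 s
  | ⟨74, _⟩ => q74 s
  | ⟨75, _⟩ => q75 s
  | ⟨76, _⟩ => q76 s
  | ⟨77, _⟩ => q77 s
  | ⟨78, _⟩ => q78 s
  | ⟨79, _⟩ => q79 s
  | ⟨80, _⟩ => q80 s
  | ⟨n + 81, h⟩ => absurd h (by omega)

section

variable {s : Fin 4 → G} (hs : ∀ i, s i ∈ w.D)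
include hs

theorem m0 : q0 s ∈ w.D := hs 0
theorem m27 : q27 s ∈ w.D := hs 1
theorem m9 : q9 s ∈ w.D := hs 2
theorem m3 : q3 s ∈ w.D := hs 3
theorem m54 : q54 s ∈ w.D := w.conj _ (hs 1) _ (m0 hs)
theorem m18 : q18 s ∈ w.D := w.conj _ (hs 2) _ (m0 hs)
theorem m6 : q6 s ∈ w.D := w.conj _ (hs 3) _ (m0 hs)
theorem m72 : q72 s ∈ w.D := w.conj _ (hs 2) _ (m27 hs)
theorem m60 : q60 s ∈ w.D := w.conj _ (hs 3) _ (m27 hs)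
theorem m24 : q24 s ∈ w.D := w.conj _ (hs 3) _ (m9 hs)
theorem m45 : q45 s ∈ w.D := w.conj _ (hs 2) _ (m54 hs)
theorem m33 : q33 s ∈ w.D := w.conj _ (hs 3) _ (m54 hs)
theorem m63 : q63 s ∈ w.D := w.conj _ (hs 1) _ (m18 hs)
theorem m15 : q15 s ∈ w.D := w.conj _ (hs 3) _ (m18 hs)
theorem m57 : q57 s ∈ w.D := w.conj _ (hs 1) _ (m6 hs)
theorem m21 : q21 s ∈ w.D := w.conj _ (hs 2) _ (m6 hs)
theorem m36 : q36 s ∈ w.D := w.conj _ (hs 0) _ (m72 hs)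
theorem m43 : q43 s ∈ w.D := w.conj _ (hs 3) _ (m72 hs)
theorem m30 : q30 s ∈ w.D := w.conj _ (hs 0) _ (m60 hs)
theorem m50 : q50 s ∈ w.D := w.conj _ (hs 2) _ (m60 hs)
theorem m12 : q12 s ∈ w.D := w.conj _ (hs 0) _ (m24 hs)
theorem m66 : q66 s ∈ w.D := w.conj _ (hs 1) _ (m24 hs)
theorem m71 : q71 s ∈ w.D := w.conj _ (hs 3) _ (m45 hs)
theorem m76 : q76 s ∈ w.D := w.conj _ (hs 2) _ (m33 hs)
theorem m53 : q53 s ∈ w.D := w.conj _ (hs 3) _ (m63 hs)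
theorem m75 : q75 s ∈ w.D := w.conj _ (hs 1) _ (m15 hs)
theorem m52 : q52 s ∈ w.D := w.conj _ (hs 2) _ (m57 hs)
theorem m69 : q69 s ∈ w.D := w.conj _ (hs 1) _ (m21 hs)
theorem m79 : q79 s ∈ w.D := w.conj _ (hs 3) _ (m36 hs)
theorem m77 : q77 s ∈ w.D := w.conj _ (hs 0) _ (m43 hs)
theorem m80 : q80 s ∈ w.D := w.conj _ (hs 2) _ (m30 hs)
theorem m70 : q70 s ∈ w.D := w.conj _ (hs 0) _ (m50 hs)
theorem m78 : q78 s ∈ w.D := w.conj _ (hs 1) _ (m12 hs)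
theorem m51 : q51 s ∈ w.D := w.conj _ (hs 0) _ (m66 hs)
theorem m49 : q49 s ∈ w.D := w.conj _ (hs 0) _ (m71 hs)
theorem m22 : q22 s ∈ w.D := w.conj _ (hs 1) _ (m71 hs)
theorem m39 : q39 s ∈ w.D := w.conj _ (hs 2) _ (m71 hs)
theorem m44 : q44 s ∈ w.D := w.conj _ (hs 0) _ (m76 hs)
theorem m17 : q17 s ∈ w.D := w.conj _ (hs 1) _ (m76 hs)
theorem m67 : q67 s ∈ w.D := w.conj _ (hs 0) _ (m53 hs)
theorem m40 : q40 s ∈ w.D := w.conj _ (hs 1) _ (m53 hs)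
theorem m59 : q59 s ∈ w.D := w.conj _ (hs 2) _ (m53 hs)
theorem m42 : q42 s ∈ w.D := w.conj _ (hs 0) _ (m75 hs)
theorem m34 : q34 s ∈ w.D := w.conj _ (hs 2) _ (m75 hs)
theorem m68 : q68 s ∈ w.D := w.conj _ (hs 0) _ (m52 hs)
theorem m41 : q41 s ∈ w.D := w.conj _ (hs 1) _ (m52 hs)
theorem m64 : q64 s ∈ w.D := w.conj _ (hs 3) _ (m52 hs)
theorem m48 : q48 s ∈ w.D := w.conj _ (hs 0) _ (m69 hs)
theorem m47 : q47 s ∈ w.D := w.conj _ (hs 3) _ (m69 hs)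
theorem m14 : q14 s ∈ w.D := w.conj _ (hs 1) _ (m79 hs)
theorem m31 : q31 s ∈ w.D := w.conj _ (hs 2) _ (m79 hs)
theorem m16 : q16 s ∈ w.D := w.conj _ (hs 1) _ (m77 hs)
theorem m35 : q35 s ∈ w.D := w.conj _ (hs 2) _ (m77 hs)
theorem m13 : q13 s ∈ w.D := w.conj _ (hs 1) _ (m80 hs)
theorem m38 : q38 s ∈ w.D := w.conj _ (hs 3) _ (m80 hs)
theorem m23 : q23 s ∈ w.D := w.conj _ (hs 1) _ (m70 hs)
theorem m46 : q46 s ∈ w.D := w.conj _ (hs 3) _ (m70 hs)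
theorem m32 : q32 s ∈ w.D := w.conj _ (hs 2) _ (m78 hs)
theorem m37 : q37 s ∈ w.D := w.conj _ (hs 3) _ (m78 hs)
theorem m58 : q58 s ∈ w.D := w.conj _ (hs 2) _ (m51 hs)
theorem m65 : q65 s ∈ w.D := w.conj _ (hs 3) _ (m51 hs)
theorem m61 : q61 s ∈ w.D := w.conj _ (hs 2) _ (m49 hs)
theorem m8 : q8 s ∈ w.D := w.conj _ (hs 2) _ (m22 hs)
theorem m74 : q74 s ∈ w.D := w.conj _ (hs 3) _ (m44 hs)
theorem m19 : q19 s ∈ w.D := w.conj _ (hs 3) _ (m17 hs)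
theorem m26 : q26 s ∈ w.D := w.conj _ (hs 1) _ (m67 hs)
theorem m7 : q7 s ∈ w.D := w.conj _ (hs 1) _ (m59 hs)
theorem m73 : q73 s ∈ w.D := w.conj _ (hs 3) _ (m42 hs)
theorem m56 : q56 s ∈ w.D := w.conj _ (hs 3) _ (m34 hs)
theorem m25 : q25 s ∈ w.D := w.conj _ (hs 1) _ (m68 hs)
theorem m20 : q20 s ∈ w.D := w.conj _ (hs 1) _ (m64 hs)
theorem m62 : q62 s ∈ w.D := w.conj _ (hs 2) _ (m48 hs)
theorem m55 : q55 s ∈ w.D := w.conj _ (hs 2) _ (m47 hs)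
theorem m5 : q5 s ∈ w.D := w.conj _ (hs 1) _ (m61 hs)
theorem m29 : q29 s ∈ w.D := w.conj _ (hs 3) _ (m61 hs)
theorem m4 : q4 s ∈ w.D := w.conj _ (hs 0) _ (m8 hs)
theorem m1 : q1 s ∈ w.D := w.conj _ (hs 3) _ (m8 hs)
theorem m10 : q10 s ∈ w.D := w.conj _ (hs 1) _ (m74 hs)
theorem m28 : q28 s ∈ w.D := w.conj _ (hs 2) _ (m74 hs)
theorem m11 : q11 s ∈ w.D := w.conj _ (hs 0) _ (m19 hs)
theorem m2 : q2 s ∈ w.D := w.conj _ (hs 2) _ (m19 hs)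
theorem l0_27_54 : Line w (q0 s) (q27 s) (q54 s) :=
  (⟨m27 hs, m0 hs, m54 hs, rfl⟩ : Line w (q27 s) (q0 s) (q54 s)).p102
theorem l0_9_18 : Line w (q0 s) (q9 s) (q18 s) :=
  (⟨m9 hs, m0 hs, m18 hs, rfl⟩ : Line w (q9 s) (q0 s) (q18 s)).p102
theorem l0_3_6 : Line w (q0 s) (q3 s) (q6 s) :=
  (⟨m3 hs, m0 hs, m6 hs, rfl⟩ : Line w (q3 s) (q0 s) (q6 s)).p102
theorem l9_27_72 : Line w (q9 s) (q27 s) (q72 s) :=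
  (⟨m9 hs, m27 hs, m72 hs, rfl⟩ : Line w (q9 s) (q27 s) (q72 s)).p012
theorem l3_27_60 : Line w (q3 s) (q27 s) (q60 s) :=
  (⟨m3 hs, m27 hs, m60 hs, rfl⟩ : Line w (q3 s) (q27 s) (q60 s)).p012
theorem l3_9_24 : Line w (q3 s) (q9 s) (q24 s) :=
  (⟨m3 hs, m9 hs, m24 hs, rfl⟩ : Line w (q3 s) (q9 s) (q24 s)).p012
theorem l9_45_54 : Line w (q9 s) (q45 s) (q54 s) :=
  (⟨m9 hs, m54 hs, m45 hs, rfl⟩ : Line w (q9 s) (q54 s) (q45 s)).p021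
theorem l3_33_54 : Line w (q3 s) (q33 s) (q54 s) :=
  (⟨m3 hs, m54 hs, m33 hs, rfl⟩ : Line w (q3 s) (q54 s) (q33 s)).p021
theorem l18_27_63 : Line w (q18 s) (q27 s) (q63 s) :=
  (⟨m27 hs, m18 hs, m63 hs, rfl⟩ : Line w (q27 s) (q18 s) (q63 s)).p102
theorem l3_15_18 : Line w (q3 s) (q15 s) (q18 s) :=
  (⟨m3 hs, m18 hs, m15 hs, rfl⟩ : Line w (q3 s) (q18 s) (q15 s)).p021
theorem l6_27_57 : Line w (q6 s) (q27 s) (q57 s) :=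
  (⟨m27 hs, m6 hs, m57 hs, rfl⟩ : Line w (q27 s) (q6 s) (q57 s)).p102
theorem l6_9_21 : Line w (q6 s) (q9 s) (q21 s) :=
  (⟨m9 hs, m6 hs, m21 hs, rfl⟩ : Line w (q9 s) (q6 s) (q21 s)).p102
theorem l0_36_72 : Line w (q0 s) (q36 s) (q72 s) :=
  (⟨m0 hs, m72 hs, m36 hs, rfl⟩ : Line w (q0 s) (q72 s) (q36 s)).p021
theorem l3_43_72 : Line w (q3 s) (q43 s) (q72 s) :=
  (⟨m3 hs, m72 hs, m43 hs, rfl⟩ : Line w (q3 s) (q72 s) (q43 s)).p021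
theorem l0_30_60 : Line w (q0 s) (q30 s) (q60 s) :=
  (⟨m0 hs, m60 hs, m30 hs, rfl⟩ : Line w (q0 s) (q60 s) (q30 s)).p021
theorem l9_50_60 : Line w (q9 s) (q50 s) (q60 s) :=
  (⟨m9 hs, m60 hs, m50 hs, rfl⟩ : Line w (q9 s) (q60 s) (q50 s)).p021
theorem l0_12_24 : Line w (q0 s) (q12 s) (q24 s) :=
  (⟨m0 hs, m24 hs, m12 hs, rfl⟩ : Line w (q0 s) (q24 s) (q12 s)).p021
theorem l24_27_66 : Line w (q24 s) (q27 s) (q66 s) :=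
  (⟨m27 hs, m24 hs, m66 hs, rfl⟩ : Line w (q27 s) (q24 s) (q66 s)).p102
theorem l3_45_71 : Line w (q3 s) (q45 s) (q71 s) :=
  (⟨m3 hs, m45 hs, m71 hs, rfl⟩ : Line w (q3 s) (q45 s) (q71 s)).p012
theorem l9_33_76 : Line w (q9 s) (q33 s) (q76 s) :=
  (⟨m9 hs, m33 hs, m76 hs, rfl⟩ : Line w (q9 s) (q33 s) (q76 s)).p012
theorem l3_53_63 : Line w (q3 s) (q53 s) (q63 s) :=
  (⟨m3 hs, m63 hs, m53 hs, rfl⟩ : Line w (q3 s) (q63 s) (q53 s)).p021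
theorem l15_27_75 : Line w (q15 s) (q27 s) (q75 s) :=
  (⟨m27 hs, m15 hs, m75 hs, rfl⟩ : Line w (q27 s) (q15 s) (q75 s)).p102
theorem l9_52_57 : Line w (q9 s) (q52 s) (q57 s) :=
  (⟨m9 hs, m57 hs, m52 hs, rfl⟩ : Line w (q9 s) (q57 s) (q52 s)).p021
theorem l21_27_69 : Line w (q21 s) (q27 s) (q69 s) :=
  (⟨m27 hs, m21 hs, m69 hs, rfl⟩ : Line w (q27 s) (q21 s) (q69 s)).p102
theorem l3_36_79 : Line w (q3 s) (q36 s) (q79 s) :=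
  (⟨m3 hs, m36 hs, m79 hs, rfl⟩ : Line w (q3 s) (q36 s) (q79 s)).p012
theorem l0_43_77 : Line w (q0 s) (q43 s) (q77 s) :=
  (⟨m0 hs, m43 hs, m77 hs, rfl⟩ : Line w (q0 s) (q43 s) (q77 s)).p012
theorem l9_30_80 : Line w (q9 s) (q30 s) (q80 s) :=
  (⟨m9 hs, m30 hs, m80 hs, rfl⟩ : Line w (q9 s) (q30 s) (q80 s)).p012
theorem l0_50_70 : Line w (q0 s) (q50 s) (q70 s) :=
  (⟨m0 hs, m50 hs, m70 hs, rfl⟩ : Line w (q0 s) (q50 s) (q70 s)).p012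
theorem l12_27_78 : Line w (q12 s) (q27 s) (q78 s) :=
  (⟨m27 hs, m12 hs, m78 hs, rfl⟩ : Line w (q27 s) (q12 s) (q78 s)).p102
theorem l0_51_66 : Line w (q0 s) (q51 s) (q66 s) :=
  (⟨m0 hs, m66 hs, m51 hs, rfl⟩ : Line w (q0 s) (q66 s) (q51 s)).p021
theorem l0_49_71 : Line w (q0 s) (q49 s) (q71 s) :=
  (⟨m0 hs, m71 hs, m49 hs, rfl⟩ : Line w (q0 s) (q71 s) (q49 s)).p021
theorem l22_27_71 : Line w (q22 s) (q27 s) (q71 s) :=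
  (⟨m27 hs, m71 hs, m22 hs, rfl⟩ : Line w (q27 s) (q71 s) (q22 s)).p201
theorem l9_39_71 : Line w (q9 s) (q39 s) (q71 s) :=
  (⟨m9 hs, m71 hs, m39 hs, rfl⟩ : Line w (q9 s) (q71 s) (q39 s)).p021
theorem l0_44_76 : Line w (q0 s) (q44 s) (q76 s) :=
  (⟨m0 hs, m76 hs, m44 hs, rfl⟩ : Line w (q0 s) (q76 s) (q44 s)).p021
theorem l17_27_76 : Line w (q17 s) (q27 s) (q76 s) :=
  (⟨m27 hs, m76 hs, m17 hs, rfl⟩ : Line w (q27 s) (q76 s) (q17 s)).p201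
theorem l0_53_67 : Line w (q0 s) (q53 s) (q67 s) :=
  (⟨m0 hs, m53 hs, m67 hs, rfl⟩ : Line w (q0 s) (q53 s) (q67 s)).p012
theorem l27_40_53 : Line w (q27 s) (q40 s) (q53 s) :=
  (⟨m27 hs, m53 hs, m40 hs, rfl⟩ : Line w (q27 s) (q53 s) (q40 s)).p021
theorem l9_53_59 : Line w (q9 s) (q53 s) (q59 s) :=
  (⟨m9 hs, m53 hs, m59 hs, rfl⟩ : Line w (q9 s) (q53 s) (q59 s)).p012
theorem l0_42_75 : Line w (q0 s) (q42 s) (q75 s) :=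
  (⟨m0 hs, m75 hs, m42 hs, rfl⟩ : Line w (q0 s) (q75 s) (q42 s)).p021
theorem l9_34_75 : Line w (q9 s) (q34 s) (q75 s) :=
  (⟨m9 hs, m75 hs, m34 hs, rfl⟩ : Line w (q9 s) (q75 s) (q34 s)).p021
theorem l0_52_68 : Line w (q0 s) (q52 s) (q68 s) :=
  (⟨m0 hs, m52 hs, m68 hs, rfl⟩ : Line w (q0 s) (q52 s) (q68 s)).p012
theorem l27_41_52 : Line w (q27 s) (q41 s) (q52 s) :=
  (⟨m27 hs, m52 hs, m41 hs, rfl⟩ : Line w (q27 s) (q52 s) (q41 s)).p021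
theorem l3_52_64 : Line w (q3 s) (q52 s) (q64 s) :=
  (⟨m3 hs, m52 hs, m64 hs, rfl⟩ : Line w (q3 s) (q52 s) (q64 s)).p012
theorem l0_48_69 : Line w (q0 s) (q48 s) (q69 s) :=
  (⟨m0 hs, m69 hs, m48 hs, rfl⟩ : Line w (q0 s) (q69 s) (q48 s)).p021
theorem l3_47_69 : Line w (q3 s) (q47 s) (q69 s) :=
  (⟨m3 hs, m69 hs, m47 hs, rfl⟩ : Line w (q3 s) (q69 s) (q47 s)).p021
theorem l14_27_79 : Line w (q14 s) (q27 s) (q79 s) :=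
  (⟨m27 hs, m79 hs, m14 hs, rfl⟩ : Line w (q27 s) (q79 s) (q14 s)).p201
theorem l9_31_79 : Line w (q9 s) (q31 s) (q79 s) :=
  (⟨m9 hs, m79 hs, m31 hs, rfl⟩ : Line w (q9 s) (q79 s) (q31 s)).p021
theorem l16_27_77 : Line w (q16 s) (q27 s) (q77 s) :=
  (⟨m27 hs, m77 hs, m16 hs, rfl⟩ : Line w (q27 s) (q77 s) (q16 s)).p201
theorem l9_35_77 : Line w (q9 s) (q35 s) (q77 s) :=
  (⟨m9 hs, m77 hs, m35 hs, rfl⟩ : Line w (q9 s) (q77 s) (q35 s)).p021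
theorem l13_27_80 : Line w (q13 s) (q27 s) (q80 s) :=
  (⟨m27 hs, m80 hs, m13 hs, rfl⟩ : Line w (q27 s) (q80 s) (q13 s)).p201
theorem l3_38_80 : Line w (q3 s) (q38 s) (q80 s) :=
  (⟨m3 hs, m80 hs, m38 hs, rfl⟩ : Line w (q3 s) (q80 s) (q38 s)).p021
theorem l23_27_70 : Line w (q23 s) (q27 s) (q70 s) :=
  (⟨m27 hs, m70 hs, m23 hs, rfl⟩ : Line w (q27 s) (q70 s) (q23 s)).p201
theorem l3_46_70 : Line w (q3 s) (q46 s) (q70 s) :=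
  (⟨m3 hs, m70 hs, m46 hs, rfl⟩ : Line w (q3 s) (q70 s) (q46 s)).p021
theorem l9_32_78 : Line w (q9 s) (q32 s) (q78 s) :=
  (⟨m9 hs, m78 hs, m32 hs, rfl⟩ : Line w (q9 s) (q78 s) (q32 s)).p021
theorem l3_37_78 : Line w (q3 s) (q37 s) (q78 s) :=
  (⟨m3 hs, m78 hs, m37 hs, rfl⟩ : Line w (q3 s) (q78 s) (q37 s)).p021
theorem l9_51_58 : Line w (q9 s) (q51 s) (q58 s) :=
  (⟨m9 hs, m51 hs, m58 hs, rfl⟩ : Line w (q9 s) (q51 s) (q58 s)).p012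
theorem l3_51_65 : Line w (q3 s) (q51 s) (q65 s) :=
  (⟨m3 hs, m51 hs, m65 hs, rfl⟩ : Line w (q3 s) (q51 s) (q65 s)).p012
theorem l9_49_61 : Line w (q9 s) (q49 s) (q61 s) :=
  (⟨m9 hs, m49 hs, m61 hs, rfl⟩ : Line w (q9 s) (q49 s) (q61 s)).p012
theorem l8_9_22 : Line w (q8 s) (q9 s) (q22 s) :=
  (⟨m9 hs, m22 hs, m8 hs, rfl⟩ : Line w (q9 s) (q22 s) (q8 s)).p201
theorem l3_44_74 : Line w (q3 s) (q44 s) (q74 s) :=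
  (⟨m3 hs, m44 hs, m74 hs, rfl⟩ : Line w (q3 s) (q44 s) (q74 s)).p012
theorem l3_17_19 : Line w (q3 s) (q17 s) (q19 s) :=
  (⟨m3 hs, m17 hs, m19 hs, rfl⟩ : Line w (q3 s) (q17 s) (q19 s)).p012
theorem l26_27_67 : Line w (q26 s) (q27 s) (q67 s) :=
  (⟨m27 hs, m67 hs, m26 hs, rfl⟩ : Line w (q27 s) (q67 s) (q26 s)).p201
theorem l7_27_59 : Line w (q7 s) (q27 s) (q59 s) :=
  (⟨m27 hs, m59 hs, m7 hs, rfl⟩ : Line w (q27 s) (q59 s) (q7 s)).p201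
theorem l3_42_73 : Line w (q3 s) (q42 s) (q73 s) :=
  (⟨m3 hs, m42 hs, m73 hs, rfl⟩ : Line w (q3 s) (q42 s) (q73 s)).p012
theorem l3_34_56 : Line w (q3 s) (q34 s) (q56 s) :=
  (⟨m3 hs, m34 hs, m56 hs, rfl⟩ : Line w (q3 s) (q34 s) (q56 s)).p012
theorem l25_27_68 : Line w (q25 s) (q27 s) (q68 s) :=
  (⟨m27 hs, m68 hs, m25 hs, rfl⟩ : Line w (q27 s) (q68 s) (q25 s)).p201
theorem l20_27_64 : Line w (q20 s) (q27 s) (q64 s) :=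
  (⟨m27 hs, m64 hs, m20 hs, rfl⟩ : Line w (q27 s) (q64 s) (q20 s)).p201
theorem l9_48_62 : Line w (q9 s) (q48 s) (q62 s) :=
  (⟨m9 hs, m48 hs, m62 hs, rfl⟩ : Line w (q9 s) (q48 s) (q62 s)).p012
theorem l9_47_55 : Line w (q9 s) (q47 s) (q55 s) :=
  (⟨m9 hs, m47 hs, m55 hs, rfl⟩ : Line w (q9 s) (q47 s) (q55 s)).p012
theorem l5_27_61 : Line w (q5 s) (q27 s) (q61 s) :=
  (⟨m27 hs, m61 hs, m5 hs, rfl⟩ : Line w (q27 s) (q61 s) (q5 s)).p201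
theorem l3_29_61 : Line w (q3 s) (q29 s) (q61 s) :=
  (⟨m3 hs, m61 hs, m29 hs, rfl⟩ : Line w (q3 s) (q61 s) (q29 s)).p021
theorem l0_4_8 : Line w (q0 s) (q4 s) (q8 s) :=
  (⟨m0 hs, m8 hs, m4 hs, rfl⟩ : Line w (q0 s) (q8 s) (q4 s)).p021
theorem l1_3_8 : Line w (q1 s) (q3 s) (q8 s) :=
  (⟨m3 hs, m8 hs, m1 hs, rfl⟩ : Line w (q3 s) (q8 s) (q1 s)).p201
theorem l10_27_74 : Line w (q10 s) (q27 s) (q74 s) :=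
  (⟨m27 hs, m74 hs, m10 hs, rfl⟩ : Line w (q27 s) (q74 s) (q10 s)).p201
theorem l9_28_74 : Line w (q9 s) (q28 s) (q74 s) :=
  (⟨m9 hs, m74 hs, m28 hs, rfl⟩ : Line w (q9 s) (q74 s) (q28 s)).p021
theorem l0_11_19 : Line w (q0 s) (q11 s) (q19 s) :=
  (⟨m0 hs, m19 hs, m11 hs, rfl⟩ : Line w (q0 s) (q19 s) (q11 s)).p021
theorem l2_9_19 : Line w (q2 s) (q9 s) (q19 s) :=
  (⟨m9 hs, m19 hs, m2 hs, rfl⟩ : Line w (q9 s) (q19 s) (q2 s)).p201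
theorem l6_33_60 : Line w (q6 s) (q33 s) (q60 s) :=
  (Line.img (l3_27_60 hs).p012 (l0_3_6 hs).p102 (l0_27_54 hs).p102 (l3_33_54 hs).p021).p120
theorem l18_45_72 : Line w (q18 s) (q45 s) (q72 s) :=
  (Line.img (l9_27_72 hs).p012 (l0_9_18 hs).p102 (l0_27_54 hs).p102 (l9_45_54 hs).p021).p120
theorem l6_15_24 : Line w (q6 s) (q15 s) (q24 s) :=
  (Line.img (l3_9_24 hs).p012 (l0_3_6 hs).p102 (l0_9_18 hs).p102 (l3_15_18 hs).p021).p120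
theorem l54_63_72 : Line w (q54 s) (q63 s) (q72 s) :=
  (Line.img (l9_27_72 hs).p102 (l0_27_54 hs).p102 (l0_9_18 hs).p102 (l18_27_63 hs).p102).p120
theorem l0_45_63 : Line w (q0 s) (q45 s) (q63 s) :=
  (Line.pre (l9_45_54 hs).p102 (l18_45_72 hs).p102 (l0_9_18 hs).p120 (l54_63_72 hs).p021).p102
theorem l27_36_45 : Line w (q27 s) (q36 s) (q45 s) :=
  (Line.img (l9_27_72 hs).p201 (l0_36_72 hs).p201 (l0_9_18 hs).p102 (l18_45_72 hs).p201).p012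
theorem l18_21_24 : Line w (q18 s) (q21 s) (q24 s) :=
  (Line.img (l3_9_24 hs).p102 (l0_9_18 hs).p102 (l0_3_6 hs).p102 (l6_9_21 hs).p102).p120
theorem l0_15_21 : Line w (q0 s) (q15 s) (q21 s) :=
  (Line.pre (l3_15_18 hs).p102 (l6_15_24 hs).p102 (l0_3_6 hs).p120 (l18_21_24 hs).p021).p102
theorem l9_12_15 : Line w (q9 s) (q12 s) (q15 s) :=
  (Line.img (l3_9_24 hs).p201 (l0_12_24 hs).p201 (l0_3_6 hs).p102 (l6_15_24 hs).p201).p012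
theorem l54_57_60 : Line w (q54 s) (q57 s) (q60 s) :=
  (Line.img (l3_27_60 hs).p102 (l0_27_54 hs).p102 (l0_3_6 hs).p102 (l6_27_57 hs).p102).p120
theorem l0_33_57 : Line w (q0 s) (q33 s) (q57 s) :=
  (Line.pre (l3_33_54 hs).p102 (l6_33_60 hs).p102 (l0_3_6 hs).p120 (l54_57_60 hs).p021).p102
theorem l27_30_33 : Line w (q27 s) (q30 s) (q33 s) :=
  (Line.img (l3_27_60 hs).p201 (l0_30_60 hs).p201 (l0_3_6 hs).p102 (l6_33_60 hs).p201).p012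
theorem l18_36_54 : Line w (q18 s) (q36 s) (q54 s) :=
  (Line.img (l0_9_18 hs).p012 (l0_27_54 hs).p012 (l9_27_72 hs).p012 (l0_36_72 hs).p021).p021
theorem l24_43_60 : Line w (q24 s) (q43 s) (q60 s) :=
  (Line.img (l3_9_24 hs).p012 (l3_27_60 hs).p012 (l9_27_72 hs).p012 (l3_43_72 hs).p021).p021
theorem l9_36_63 : Line w (q9 s) (q36 s) (q63 s) :=
  (Line.pre (l27_36_45 hs).p102 (l0_36_72 hs).p120 (l9_27_72 hs).p120 (l0_45_63 hs).p102).p102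
theorem l6_30_54 : Line w (q6 s) (q30 s) (q54 s) :=
  (Line.img (l0_3_6 hs).p012 (l0_27_54 hs).p012 (l3_27_60 hs).p012 (l0_30_60 hs).p021).p021
theorem l24_50_72 : Line w (q24 s) (q50 s) (q72 s) :=
  (Line.img (l3_9_24 hs).p102 (l9_27_72 hs).p012 (l3_27_60 hs).p012 (l9_50_60 hs).p021).p021
theorem l9_43_66 : Line w (q9 s) (q43 s) (q66 s) :=
  (Line.img (l3_9_24 hs).p201 (l24_27_66 hs).p012 (l3_27_60 hs).p012 (l24_43_60 hs).p021).p021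
theorem l3_30_57 : Line w (q3 s) (q30 s) (q57 s) :=
  (Line.pre (l27_30_33 hs).p102 (l0_30_60 hs).p120 (l3_27_60 hs).p120 (l0_33_57 hs).p102).p102
theorem l27_43_50 : Line w (q27 s) (q43 s) (q50 s) :=
  (Line.pre (l3_43_72 hs).p102 (l24_43_60 hs).p120 (l3_27_60 hs).p021 (l24_50_72 hs).p201).p102
theorem l3_50_66 : Line w (q3 s) (q50 s) (q66 s) :=
  (Line.pre (l27_43_50 hs).p201 (l9_50_60 hs).p120 (l3_27_60 hs).p120 (l9_43_66 hs).p102).p102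
theorem l60_66_72 : Line w (q60 s) (q66 s) (q72 s) :=
  (Line.pre (l3_50_66 hs).p201 (l24_27_66 hs).p210 (l3_27_60 hs).p012 (l24_50_72 hs).p102).p102
theorem l6_12_18 : Line w (q6 s) (q12 s) (q18 s) :=
  (Line.img (l0_3_6 hs).p012 (l0_9_18 hs).p012 (l3_9_24 hs).p012 (l0_12_24 hs).p021).p021
theorem l3_12_21 : Line w (q3 s) (q12 s) (q21 s) :=
  (Line.pre (l9_12_15 hs).p102 (l0_12_24 hs).p120 (l3_9_24 hs).p120 (l0_15_21 hs).p102).p102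
theorem l24_33_71 : Line w (q24 s) (q33 s) (q71 s) :=
  (Line.img (l3_9_24 hs).p012 (l3_33_54 hs).p021 (l9_45_54 hs).p021 (l3_45_71 hs).p012).p012
theorem l24_45_76 : Line w (q24 s) (q45 s) (q76 s) :=
  (Line.img (l3_9_24 hs).p102 (l9_45_54 hs).p021 (l3_33_54 hs).p021 (l9_33_76 hs).p012).p012
theorem l24_39_54 : Line w (q24 s) (q39 s) (q54 s) :=
  (Line.pre (l3_9_24 hs).p201 (l24_33_71 hs).p012 (l3_33_54 hs).p012 (l9_39_71 hs).p021).p021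
theorem l54_71_76 : Line w (q54 s) (q71 s) (q76 s) :=
  (Line.pre (l3_45_71 hs).p201 (l24_33_71 hs).p210 (l3_33_54 hs).p012 (l24_45_76 hs).p102).p102
theorem l3_39_76 : Line w (q3 s) (q39 s) (q76 s) :=
  (Line.pre (l54_71_76 hs).p201 (l9_33_76 hs).p210 (l3_33_54 hs).p210 (l9_39_71 hs).p201).p120
theorem l15_53_60 : Line w (q15 s) (q53 s) (q60 s) :=
  (Line.img (l3_27_60 hs).p012 (l3_15_18 hs).p021 (l18_27_63 hs).p102 (l3_53_63 hs).p021).p120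
theorem l60_63_75 : Line w (q60 s) (q63 s) (q75 s) :=
  (Line.img (l3_27_60 hs).p102 (l18_27_63 hs).p102 (l3_15_18 hs).p021 (l15_27_75 hs).p102).p012
theorem l18_53_75 : Line w (q18 s) (q53 s) (q75 s) :=
  (Line.pre (l3_53_63 hs).p102 (l15_53_60 hs).p102 (l3_15_18 hs).p012 (l60_63_75 hs).p102).p102
theorem l18_40_60 : Line w (q18 s) (q40 s) (q60 s) :=
  (Line.pre (l3_27_60 hs).p201 (l15_53_60 hs).p201 (l3_15_18 hs).p012 (l27_40_53 hs).p021).p120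
theorem l3_40_75 : Line w (q3 s) (q40 s) (q75 s) :=
  (Line.pre (l18_53_75 hs).p201 (l15_27_75 hs).p201 (l3_15_18 hs).p210 (l27_40_53 hs).p201).p120
theorem l21_52_72 : Line w (q21 s) (q52 s) (q72 s) :=
  (Line.img (l9_27_72 hs).p012 (l6_9_21 hs).p102 (l6_27_57 hs).p102 (l9_52_57 hs).p021).p120
theorem l57_69_72 : Line w (q57 s) (q69 s) (q72 s) :=
  (Line.img (l9_27_72 hs).p102 (l6_27_57 hs).p102 (l6_9_21 hs).p102 (l21_27_69 hs).p102).p120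
theorem l6_52_69 : Line w (q6 s) (q52 s) (q69 s) :=
  (Line.pre (l9_52_57 hs).p102 (l21_52_72 hs).p102 (l6_9_21 hs).p120 (l57_69_72 hs).p021).p102
theorem l9_41_69 : Line w (q9 s) (q41 s) (q69 s) :=
  (Line.pre (l6_52_69 hs).p201 (l21_27_69 hs).p201 (l6_9_21 hs).p021 (l27_41_52 hs).p201).p120
theorem l6_41_72 : Line w (q6 s) (q41 s) (q72 s) :=
  (Line.pre (l9_27_72 hs).p201 (l21_52_72 hs).p201 (l6_9_21 hs).p120 (l27_41_52 hs).p021).p120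
theorem l6_43_79 : Line w (q6 s) (q43 s) (q79 s) :=
  (Line.img (l0_3_6 hs).p102 (l3_43_72 hs).p021 (l0_36_72 hs).p021 (l3_36_79 hs).p012).p012
theorem l6_36_77 : Line w (q6 s) (q36 s) (q77 s) :=
  (Line.img (l0_3_6 hs).p012 (l0_36_72 hs).p021 (l3_43_72 hs).p021 (l0_43_77 hs).p012).p012
theorem l0_41_79 : Line w (q0 s) (q41 s) (q79 s) :=
  (Line.img (l0_3_6 hs).p210 (l6_41_72 hs).p021 (l3_43_72 hs).p021 (l6_43_79 hs).p012).p012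
theorem l36_41_43 : Line w (q36 s) (q41 s) (q43 s) :=
  (Line.pre (l3_36_79 hs).p102 (l0_36_72 hs).p120 (l3_43_72 hs).p021 (l0_41_79 hs).p201).p021
theorem l3_41_77 : Line w (q3 s) (q41 s) (q77 s) :=
  (Line.pre (l6_41_72 hs).p120 (l36_41_43 hs).p120 (l3_43_72 hs).p210 (l6_36_77 hs).p012).p102
theorem l72_77_79 : Line w (q72 s) (q77 s) (q79 s) :=
  (Line.pre (l3_41_77 hs).p201 (l0_43_77 hs).p210 (l3_43_72 hs).p012 (l0_41_79 hs).p102).p102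
theorem l18_50_80 : Line w (q18 s) (q50 s) (q80 s) :=
  (Line.img (l0_9_18 hs).p102 (l9_50_60 hs).p021 (l0_30_60 hs).p021 (l9_30_80 hs).p012).p012
theorem l18_30_70 : Line w (q18 s) (q30 s) (q70 s) :=
  (Line.img (l0_9_18 hs).p012 (l0_30_60 hs).p021 (l9_50_60 hs).p021 (l0_50_70 hs).p012).p012
theorem l0_40_80 : Line w (q0 s) (q40 s) (q80 s) :=
  (Line.img (l0_9_18 hs).p210 (l18_40_60 hs).p021 (l9_50_60 hs).p021 (l18_50_80 hs).p012).p012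
theorem l30_40_50 : Line w (q30 s) (q40 s) (q50 s) :=
  (Line.pre (l9_30_80 hs).p102 (l0_30_60 hs).p120 (l9_50_60 hs).p021 (l0_40_80 hs).p201).p021
theorem l9_40_70 : Line w (q9 s) (q40 s) (q70 s) :=
  (Line.pre (l18_40_60 hs).p120 (l30_40_50 hs).p120 (l9_50_60 hs).p210 (l18_30_70 hs).p012).p102
theorem l60_70_80 : Line w (q60 s) (q70 s) (q80 s) :=
  (Line.pre (l9_40_70 hs).p201 (l0_50_70 hs).p210 (l9_50_60 hs).p012 (l0_40_80 hs).p102).p102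
theorem l54_66_78 : Line w (q54 s) (q66 s) (q78 s) :=
  (Line.img (l0_27_54 hs).p102 (l24_27_66 hs).p102 (l0_12_24 hs).p021 (l12_27_78 hs).p102).p012
theorem l12_51_54 : Line w (q12 s) (q51 s) (q54 s) :=
  (Line.img (l0_27_54 hs).p012 (l0_12_24 hs).p021 (l24_27_66 hs).p102 (l0_51_66 hs).p021).p120
theorem l0_39_78 : Line w (q0 s) (q39 s) (q78 s) :=
  (Line.img (l0_27_54 hs).p210 (l24_39_54 hs).p201 (l24_27_66 hs).p102 (l54_66_78 hs).p012).p012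
theorem l24_51_78 : Line w (q24 s) (q51 s) (q78 s) :=
  (Line.pre (l12_27_78 hs).p210 (l54_66_78 hs).p210 (l24_27_66 hs).p120 (l12_51_54 hs).p021).p120
theorem l6_49_63 : Line w (q6 s) (q49 s) (q63 s) :=
  (Line.img (l0_3_6 hs).p012 (l0_45_63 hs).p012 (l3_45_71 hs).p012 (l0_49_71 hs).p021).p021
theorem l22_36_60 : Line w (q22 s) (q36 s) (q60 s) :=
  (Line.img (l3_27_60 hs).p102 (l27_36_45 hs).p021 (l3_45_71 hs).p012 (l22_27_71 hs).p120).p210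
theorem l14_36_71 : Line w (q14 s) (q36 s) (q71 s) :=
  (Line.pre (l3_36_79 hs).p102 (l27_36_45 hs).p120 (l3_45_71 hs).p012 (l14_27_79 hs).p210).p201
theorem l18_44_57 : Line w (q18 s) (q44 s) (q57 s) :=
  (Line.img (l0_9_18 hs).p012 (l0_33_57 hs).p012 (l9_33_76 hs).p012 (l0_44_76 hs).p021).p021
theorem l17_30_72 : Line w (q17 s) (q30 s) (q72 s) :=
  (Line.img (l9_27_72 hs).p102 (l27_30_33 hs).p021 (l9_33_76 hs).p012 (l17_27_76 hs).p120).p210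
theorem l13_30_76 : Line w (q13 s) (q30 s) (q76 s) :=
  (Line.pre (l9_30_80 hs).p102 (l27_30_33 hs).p120 (l9_33_76 hs).p012 (l13_27_80 hs).p210).p201
theorem l6_45_67 : Line w (q6 s) (q45 s) (q67 s) :=
  (Line.img (l0_3_6 hs).p012 (l0_45_63 hs).p021 (l3_53_63 hs).p021 (l0_53_67 hs).p012).p012
theorem l24_36_59 : Line w (q24 s) (q36 s) (q59 s) :=
  (Line.img (l3_9_24 hs).p102 (l9_36_63 hs).p021 (l3_53_63 hs).p021 (l9_53_59 hs).p012).p012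
theorem l31_36_53 : Line w (q31 s) (q36 s) (q53 s) :=
  (Line.pre (l3_36_79 hs).p102 (l9_36_63 hs).p120 (l3_53_63 hs).p021 (l9_31_79 hs).p201).p201
theorem l45_49_53 : Line w (q45 s) (q49 s) (q53 s) :=
  (Line.pre (l3_45_71 hs).p102 (l0_45_63 hs).p120 (l3_53_63 hs).p021 (l0_49_71 hs).p201).p021
theorem l3_49_67 : Line w (q3 s) (q49 s) (q67 s) :=
  (Line.pre (l6_49_63 hs).p120 (l45_49_53 hs).p120 (l3_53_63 hs).p210 (l6_45_67 hs).p012).p102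
theorem l21_42_54 : Line w (q21 s) (q42 s) (q54 s) :=
  (Line.img (l0_27_54 hs).p012 (l0_15_21 hs).p012 (l15_27_75 hs).p102 (l0_42_75 hs).p021).p120
theorem l12_34_72 : Line w (q12 s) (q34 s) (q72 s) :=
  (Line.img (l9_27_72 hs).p012 (l9_12_15 hs).p021 (l15_27_75 hs).p102 (l9_34_75 hs).p021).p120
theorem l12_32_75 : Line w (q12 s) (q32 s) (q75 s) :=
  (Line.pre (l12_27_78 hs).p012 (l9_12_15 hs).p120 (l15_27_75 hs).p102 (l9_32_78 hs).p201).p021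
theorem l18_33_68 : Line w (q18 s) (q33 s) (q68 s) :=
  (Line.img (l0_9_18 hs).p012 (l0_33_57 hs).p021 (l9_52_57 hs).p021 (l0_52_68 hs).p012).p012
theorem l24_30_64 : Line w (q24 s) (q30 s) (q64 s) :=
  (Line.img (l3_9_24 hs).p012 (l3_30_57 hs).p021 (l9_52_57 hs).p021 (l3_52_64 hs).p012).p012
theorem l18_52_76 : Line w (q18 s) (q52 s) (q76 s) :=
  (Line.pre (l0_9_18 hs).p210 (l18_44_57 hs).p021 (l9_52_57 hs).p021 (l0_44_76 hs).p012).p012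
theorem l30_38_52 : Line w (q30 s) (q38 s) (q52 s) :=
  (Line.pre (l9_30_80 hs).p102 (l3_30_57 hs).p120 (l9_52_57 hs).p021 (l3_38_80 hs).p201).p021
theorem l33_44_52 : Line w (q33 s) (q44 s) (q52 s) :=
  (Line.pre (l9_33_76 hs).p102 (l0_33_57 hs).p120 (l9_52_57 hs).p021 (l0_44_76 hs).p201).p021
theorem l9_44_68 : Line w (q9 s) (q44 s) (q68 s) :=
  (Line.pre (l18_44_57 hs).p120 (l33_44_52 hs).p120 (l9_52_57 hs).p210 (l18_33_68 hs).p012).p102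
theorem l15_48_54 : Line w (q15 s) (q48 s) (q54 s) :=
  (Line.img (l0_27_54 hs).p012 (l0_15_21 hs).p021 (l21_27_69 hs).p102 (l0_48_69 hs).p021).p120
theorem l12_37_69 : Line w (q12 s) (q37 s) (q69 s) :=
  (Line.pre (l12_27_78 hs).p012 (l3_12_21 hs).p120 (l21_27_69 hs).p102 (l3_37_78 hs).p201).p021
theorem l15_42_69 : Line w (q15 s) (q42 s) (q69 s) :=
  (Line.pre (l15_27_75 hs).p012 (l0_15_21 hs).p120 (l21_27_69 hs).p102 (l0_42_75 hs).p201).p021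
theorem l27_42_48 : Line w (q27 s) (q42 s) (q48 s) :=
  (Line.pre (l21_42_54 hs).p102 (l15_42_69 hs).p120 (l21_27_69 hs).p021 (l15_48_54 hs).p201).p102
theorem l3_14_22 : Line w (q3 s) (q14 s) (q22 s) :=
  (Line.pre (l14_36_71 hs).p012 (l14_27_79 hs).p021 (l3_36_79 hs).p120 (l22_27_71 hs).p210).p102
theorem l24_53_79 : Line w (q24 s) (q53 s) (q79 s) :=
  (Line.pre (l3_9_24 hs).p201 (l24_36_59 hs).p012 (l3_36_79 hs).p012 (l9_53_59 hs).p021).p021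
theorem l14_45_60 : Line w (q14 s) (q45 s) (q60 s) :=
  (Line.img (l3_27_60 hs).p102 (l27_36_45 hs).p012 (l3_36_79 hs).p012 (l14_27_79 hs).p120).p210
theorem l3_31_59 : Line w (q3 s) (q31 s) (q59 s) :=
  (Line.pre (l31_36_53 hs).p012 (l9_31_79 hs).p120 (l3_36_79 hs).p120 (l9_53_59 hs).p102).p102
theorem l54_68_79 : Line w (q54 s) (q68 s) (q79 s) :=
  (Line.pre (l3_33_54 hs).p201 (l18_36_54 hs).p210 (l3_36_79 hs).p012 (l18_33_68 hs).p102).p021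
theorem l18_35_66 : Line w (q18 s) (q35 s) (q66 s) :=
  (Line.img (l0_9_18 hs).p102 (l9_43_66 hs).p012 (l0_43_77 hs).p012 (l9_35_77 hs).p021).p021
theorem l23_50_77 : Line w (q23 s) (q50 s) (q77 s) :=
  (Line.pre (l0_50_70 hs).p102 (l27_43_50 hs).p210 (l0_43_77 hs).p012 (l23_27_70 hs).p210).p201
theorem l58_66_77 : Line w (q58 s) (q66 s) (q77 s) :=
  (Line.pre (l0_51_66 hs).p201 (l9_43_66 hs).p210 (l0_43_77 hs).p012 (l9_51_58 hs).p102).p201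
theorem l9_13_17 : Line w (q9 s) (q13 s) (q17 s) :=
  (Line.pre (l13_30_76 hs).p012 (l13_27_80 hs).p021 (l9_30_80 hs).p120 (l17_27_76 hs).p210).p102
theorem l9_38_64 : Line w (q9 s) (q38 s) (q64 s) :=
  (Line.pre (l30_38_52 hs).p102 (l3_38_80 hs).p120 (l9_30_80 hs).p120 (l3_52_64 hs).p102).p102
theorem l54_67_80 : Line w (q54 s) (q67 s) (q80 s) :=
  (Line.pre (l9_45_54 hs).p201 (l6_30_54 hs).p210 (l9_30_80 hs).p012 (l6_45_67 hs).p102).p021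
theorem l0_16_23 : Line w (q0 s) (q16 s) (q23 s) :=
  (Line.pre (l23_50_77 hs).p012 (l23_27_70 hs).p021 (l0_50_70 hs).p120 (l16_27_77 hs).p210).p120
theorem l24_34_70 : Line w (q24 s) (q34 s) (q70 s) :=
  (Line.pre (l0_12_24 hs).p201 (l24_50_72 hs).p012 (l0_50_70 hs).p012 (l12_34_72 hs).p021).p021
theorem l65_66_70 : Line w (q65 s) (q66 s) (q70 s) :=
  (Line.pre (l0_51_66 hs).p201 (l3_50_66 hs).p210 (l0_50_70 hs).p012 (l3_51_65 hs).p102).p201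
theorem l59_70_72 : Line w (q59 s) (q70 s) (q72 s) :=
  (Line.pre (l0_36_72 hs).p201 (l24_50_72 hs).p210 (l0_50_70 hs).p012 (l24_36_59 hs).p102).p210
theorem l21_37_60 : Line w (q21 s) (q37 s) (q60 s) :=
  (Line.img (l3_27_60 hs).p012 (l3_12_21 hs).p012 (l12_27_78 hs).p102 (l3_37_78 hs).p021).p120
theorem l15_32_72 : Line w (q15 s) (q32 s) (q72 s) :=
  (Line.img (l9_27_72 hs).p012 (l9_12_15 hs).p012 (l12_27_78 hs).p102 (l9_32_78 hs).p021).p120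
theorem l18_49_78 : Line w (q18 s) (q49 s) (q78 s) :=
  (Line.pre (l18_27_63 hs).p012 (l6_12_18 hs).p210 (l12_27_78 hs).p102 (l6_49_63 hs).p201).p021
theorem l27_32_34 : Line w (q27 s) (q32 s) (q34 s) :=
  (Line.pre (l12_32_75 hs).p102 (l9_32_78 hs).p120 (l12_27_78 hs).p021 (l9_34_75 hs).p201).p102
theorem l27_37_47 : Line w (q27 s) (q37 s) (q47 s) :=
  (Line.pre (l12_37_69 hs).p102 (l3_37_78 hs).p120 (l12_27_78 hs).p021 (l3_47_69 hs).p201).p102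
theorem l27_39_51 : Line w (q27 s) (q39 s) (q51 s) :=
  (Line.pre (l12_51_54 hs).p102 (l24_51_78 hs).p120 (l12_27_78 hs).p021 (l24_39_54 hs).p201).p120
theorem l18_51_77 : Line w (q18 s) (q51 s) (q77 s) :=
  (Line.pre (l0_9_18 hs).p201 (l18_35_66 hs).p021 (l0_51_66 hs).p021 (l9_35_77 hs).p012).p012
theorem l35_43_51 : Line w (q35 s) (q43 s) (q51 s) :=
  (Line.pre (l0_43_77 hs).p102 (l9_43_66 hs).p120 (l0_51_66 hs).p021 (l9_35_77 hs).p201).p201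
theorem l46_50_51 : Line w (q46 s) (q50 s) (q51 s) :=
  (Line.pre (l0_50_70 hs).p102 (l3_50_66 hs).p120 (l0_51_66 hs).p021 (l3_46_70 hs).p201).p201
theorem l0_35_58 : Line w (q0 s) (q35 s) (q58 s) :=
  (Line.pre (l58_66_77 hs).p012 (l9_51_58 hs).p210 (l0_51_66 hs).p210 (l9_35_77 hs).p201).p120
theorem l17_51_60 : Line w (q17 s) (q51 s) (q60 s) :=
  (Line.pre (l0_30_60 hs).p201 (l60_66_72 hs).p012 (l0_51_66 hs).p021 (l17_30_72 hs).p120).p210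
theorem l0_46_65 : Line w (q0 s) (q46 s) (q65 s) :=
  (Line.pre (l65_66_70 hs).p012 (l3_51_65 hs).p210 (l0_51_66 hs).p210 (l3_46_70 hs).p201).p120
theorem l22_51_72 : Line w (q22 s) (q51 s) (q72 s) :=
  (Line.pre (l0_36_72 hs).p201 (l60_66_72 hs).p210 (l0_51_66 hs).p021 (l22_36_60 hs).p120).p210
theorem l18_39_61 : Line w (q18 s) (q39 s) (q61 s) :=
  (Line.img (l0_9_18 hs).p102 (l9_39_71 hs).p021 (l0_49_71 hs).p021 (l9_49_61 hs).p012).p012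
theorem l18_32_71 : Line w (q18 s) (q32 s) (q71 s) :=
  (Line.pre (l0_9_18 hs).p201 (l18_49_78 hs).p012 (l0_49_71 hs).p012 (l9_32_78 hs).p021).p021
theorem l17_49_54 : Line w (q17 s) (q49 s) (q54 s) :=
  (Line.pre (l0_27_54 hs).p201 (l54_71_76 hs).p012 (l0_49_71 hs).p021 (l17_27_76 hs).p120).p210
theorem l0_17_22 : Line w (q0 s) (q17 s) (q22 s) :=
  (Line.pre (l0_27_54 hs).p012 (l0_49_71 hs).p021 (l22_27_71 hs).p120 (l17_49_54 hs).p210).p021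
theorem l8_39_72 : Line w (q8 s) (q39 s) (q72 s) :=
  (Line.img (l9_27_72 hs).p012 (l9_39_71 hs).p021 (l22_27_71 hs).p120 (l8_9_22 hs).p120).p210
theorem l22_33_64 : Line w (q22 s) (q33 s) (q64 s) :=
  (Line.pre (l27_30_33 hs).p201 (l24_33_71 hs).p120 (l22_27_71 hs).p120 (l24_30_64 hs).p102).p102
theorem l22_39_58 : Line w (q22 s) (q39 s) (q58 s) :=
  (Line.pre (l27_39_51 hs).p102 (l9_39_71 hs).p120 (l22_27_71 hs).p120 (l9_51_58 hs).p102).p102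
theorem l8_51_71 : Line w (q8 s) (q51 s) (q71 s) :=
  (Line.pre (l27_39_51 hs).p201 (l22_51_72 hs).p102 (l22_27_71 hs).p102 (l8_39_72 hs).p120).p201
theorem l22_44_54 : Line w (q22 s) (q44 s) (q54 s) :=
  (Line.pre (l0_27_54 hs).p210 (l54_71_76 hs).p012 (l22_27_71 hs).p120 (l0_44_76 hs).p021).p120
theorem l0_32_61 : Line w (q0 s) (q32 s) (q61 s) :=
  (Line.img (l0_9_18 hs).p210 (l18_32_71 hs).p021 (l9_39_71 hs).p021 (l18_39_61 hs).p012).p012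
theorem l8_27_58 : Line w (q8 s) (q27 s) (q58 s) :=
  (Line.img (l8_9_22 hs).p210 (l22_27_71 hs).p021 (l9_39_71 hs).p021 (l22_39_58 hs).p012).p012
theorem l6_39_74 : Line w (q6 s) (q39 s) (q74 s) :=
  (Line.img (l0_3_6 hs).p102 (l3_39_76 hs).p021 (l0_44_76 hs).p021 (l3_44_74 hs).p012).p012
theorem l27_44_49 : Line w (q27 s) (q44 s) (q49 s) :=
  (Line.pre (l0_27_54 hs).p102 (l17_27_76 hs).p120 (l0_44_76 hs).p021 (l17_49_54 hs).p201).p012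
theorem l19_39_60 : Line w (q19 s) (q39 s) (q60 s) :=
  (Line.img (l3_27_60 hs).p012 (l3_39_76 hs).p021 (l17_27_76 hs).p120 (l3_17_19 hs).p012).p210
theorem l17_39_65 : Line w (q17 s) (q39 s) (q65 s) :=
  (Line.pre (l27_39_51 hs).p102 (l3_39_76 hs).p120 (l17_27_76 hs).p120 (l3_51_65 hs).p102).p102
theorem l17_45_59 : Line w (q17 s) (q45 s) (q59 s) :=
  (Line.pre (l27_36_45 hs).p201 (l24_45_76 hs).p120 (l17_27_76 hs).p120 (l24_36_59 hs).p102).p102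
theorem l60_65_76 : Line w (q60 s) (q65 s) (q76 s) :=
  (Line.pre (l3_27_60 hs).p210 (l17_51_60 hs).p201 (l17_27_76 hs).p102 (l3_51_65 hs).p012).p021
theorem l19_27_65 : Line w (q19 s) (q27 s) (q65 s) :=
  (Line.pre (l60_65_76 hs).p120 (l17_39_65 hs).p201 (l17_27_76 hs).p201 (l19_39_60 hs).p210).p210
theorem l15_37_67 : Line w (q15 s) (q37 s) (q67 s) :=
  (Line.pre (l0_15_21 hs).p102 (l15_53_60 hs).p012 (l0_53_67 hs).p012 (l21_37_60 hs).p021).p021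
theorem l18_34_67 : Line w (q18 s) (q34 s) (q67 s) :=
  (Line.pre (l0_9_18 hs).p201 (l18_53_75 hs).p012 (l0_53_67 hs).p012 (l9_34_75 hs).p021).p021
theorem l26_40_54 : Line w (q26 s) (q40 s) (q54 s) :=
  (Line.img (l0_27_54 hs).p102 (l27_40_53 hs).p021 (l0_53_67 hs).p012 (l26_27_67 hs).p120).p210
theorem l13_53_54 : Line w (q13 s) (q53 s) (q54 s) :=
  (Line.pre (l0_27_54 hs).p201 (l54_67_80 hs).p012 (l0_53_67 hs).p021 (l13_27_80 hs).p120).p210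
theorem l0_13_26 : Line w (q0 s) (q13 s) (q26 s) :=
  (Line.img (l0_27_54 hs).p210 (l13_53_54 hs).p210 (l27_40_53 hs).p021 (l26_40_54 hs).p210).p012
theorem l0_34_59 : Line w (q0 s) (q34 s) (q59 s) :=
  (Line.pre (l0_9_18 hs).p012 (l0_53_67 hs).p012 (l9_53_59 hs).p012 (l18_34_67 hs).p021).p021
theorem l13_49_59 : Line w (q13 s) (q49 s) (q59 s) :=
  (Line.pre (l9_13_17 hs).p102 (l13_53_54 hs).p012 (l9_53_59 hs).p012 (l17_49_54 hs).p021).p021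
theorem l18_42_59 : Line w (q18 s) (q42 s) (q59 s) :=
  (Line.pre (l0_9_18 hs).p210 (l18_53_75 hs).p012 (l9_53_59 hs).p012 (l0_42_75 hs).p021).p021
theorem l7_40_72 : Line w (q7 s) (q40 s) (q72 s) :=
  (Line.img (l9_27_72 hs).p102 (l27_40_53 hs).p021 (l9_53_59 hs).p012 (l7_27_59 hs).p120).p210
theorem l34_42_53 : Line w (q34 s) (q42 s) (q53 s) :=
  (Line.pre (l9_34_75 hs).p102 (l0_34_59 hs).p120 (l9_53_59 hs).p021 (l0_42_75 hs).p201).p021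
theorem l9_42_67 : Line w (q9 s) (q42 s) (q67 s) :=
  (Line.pre (l34_42_53 hs).p120 (l18_42_59 hs).p120 (l9_53_59 hs).p120 (l18_34_67 hs).p102).p102
theorem l13_45_61 : Line w (q13 s) (q45 s) (q61 s) :=
  (Line.img (l9_49_61 hs).p102 (l45_49_53 hs).p120 (l9_53_59 hs).p012 (l13_49_59 hs).p120).p210
theorem l54_59_61 : Line w (q54 s) (q59 s) (q61 s) :=
  (Line.pre (l9_45_54 hs).p201 (l13_53_54 hs).p210 (l9_53_59 hs).p012 (l13_45_61 hs).p102).p012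
theorem l17_53_61 : Line w (q17 s) (q53 s) (q61 s) :=
  (Line.pre (l9_49_61 hs).p201 (l54_59_61 hs).p210 (l9_53_59 hs).p021 (l17_49_54 hs).p120).p210
theorem l7_53_70 : Line w (q7 s) (q53 s) (q70 s) :=
  (Line.pre (l9_40_70 hs).p201 (l59_70_72 hs).p102 (l9_53_59 hs).p021 (l7_40_72 hs).p120).p210
theorem l6_40_73 : Line w (q6 s) (q40 s) (q73 s) :=
  (Line.img (l0_3_6 hs).p102 (l3_40_75 hs).p021 (l0_42_75 hs).p021 (l3_42_73 hs).p012).p012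
theorem l14_42_63 : Line w (q14 s) (q42 s) (q63 s) :=
  (Line.pre (l0_45_63 hs).p201 (l60_63_75 hs).p120 (l0_42_75 hs).p021 (l14_45_60 hs).p120).p210
theorem l24_40_56 : Line w (q24 s) (q40 s) (q56 s) :=
  (Line.img (l3_9_24 hs).p012 (l3_40_75 hs).p021 (l9_34_75 hs).p021 (l3_34_56 hs).p012).p012
theorem l24_46_75 : Line w (q24 s) (q46 s) (q75 s) :=
  (Line.pre (l3_9_24 hs).p210 (l24_34_70 hs).p012 (l9_34_75 hs).p012 (l3_46_70 hs).p021).p021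
theorem l34_40_46 : Line w (q34 s) (q40 s) (q46 s) :=
  (Line.pre (l9_40_70 hs).p102 (l3_40_75 hs).p120 (l9_34_75 hs).p021 (l3_46_70 hs).p201).p102
theorem l9_46_56 : Line w (q9 s) (q46 s) (q56 s) :=
  (Line.pre (l24_46_75 hs).p120 (l34_40_46 hs).p201 (l9_34_75 hs).p210 (l24_40_56 hs).p012).p102
theorem l22_34_63 : Line w (q22 s) (q34 s) (q63 s) :=
  (Line.pre (l9_36_63 hs).p201 (l60_63_75 hs).p120 (l9_34_75 hs).p021 (l22_36_60 hs).p120).p210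
theorem l6_47_68 : Line w (q6 s) (q47 s) (q68 s) :=
  (Line.pre (l0_3_6 hs).p201 (l6_52_69 hs).p012 (l0_52_68 hs).p012 (l3_47_69 hs).p021).p021
theorem l21_32_68 : Line w (q21 s) (q32 s) (q68 s) :=
  (Line.pre (l0_15_21 hs).p201 (l21_52_72 hs).p012 (l0_52_68 hs).p012 (l15_32_72 hs).p021).p021
theorem l25_41_54 : Line w (q25 s) (q41 s) (q54 s) :=
  (Line.img (l0_27_54 hs).p102 (l27_41_52 hs).p021 (l0_52_68 hs).p012 (l25_27_68 hs).p120).p210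
theorem l14_52_54 : Line w (q14 s) (q52 s) (q54 s) :=
  (Line.pre (l0_27_54 hs).p201 (l54_68_79 hs).p012 (l0_52_68 hs).p021 (l14_27_79 hs).p120).p210
theorem l0_14_25 : Line w (q0 s) (q14 s) (q25 s) :=
  (Line.img (l0_27_54 hs).p210 (l14_52_54 hs).p210 (l27_41_52 hs).p021 (l25_41_54 hs).p210).p012
theorem l0_47_64 : Line w (q0 s) (q47 s) (q64 s) :=
  (Line.pre (l0_3_6 hs).p012 (l0_52_68 hs).p012 (l3_52_64 hs).p012 (l6_47_68 hs).p021).p021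
theorem l6_48_64 : Line w (q6 s) (q48 s) (q64 s) :=
  (Line.pre (l0_3_6 hs).p210 (l6_52_69 hs).p012 (l3_52_64 hs).p012 (l0_48_69 hs).p021).p021
theorem l14_44_64 : Line w (q14 s) (q44 s) (q64 s) :=
  (Line.pre (l3_14_22 hs).p102 (l14_52_54 hs).p012 (l3_52_64 hs).p012 (l22_44_54 hs).p021).p021
theorem l20_41_60 : Line w (q20 s) (q41 s) (q60 s) :=
  (Line.img (l3_27_60 hs).p102 (l27_41_52 hs).p021 (l3_52_64 hs).p012 (l20_27_64 hs).p120).p210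
theorem l14_33_74 : Line w (q14 s) (q33 s) (q74 s) :=
  (Line.img (l3_44_74 hs).p102 (l33_44_52 hs).p120 (l3_52_64 hs).p012 (l14_44_64 hs).p120).p210
theorem l47_48_52 : Line w (q47 s) (q48 s) (q52 s) :=
  (Line.pre (l3_47_69 hs).p102 (l0_47_64 hs).p120 (l3_52_64 hs).p021 (l0_48_69 hs).p201).p021
theorem l3_48_68 : Line w (q3 s) (q48 s) (q68 s) :=
  (Line.pre (l47_48_52 hs).p120 (l6_48_64 hs).p120 (l3_52_64 hs).p120 (l6_47_68 hs).p102).p102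
theorem l54_64_74 : Line w (q54 s) (q64 s) (q74 s) :=
  (Line.pre (l3_33_54 hs).p201 (l14_52_54 hs).p210 (l3_52_64 hs).p012 (l14_33_74 hs).p102).p012
theorem l61_64_76 : Line w (q61 s) (q64 s) (q76 s) :=
  (Line.pre (l3_39_76 hs).p201 (l18_52_76 hs).p210 (l3_52_64 hs).p012 (l18_39_61 hs).p102).p210
theorem l18_41_62 : Line w (q18 s) (q41 s) (q62 s) :=
  (Line.img (l0_9_18 hs).p102 (l9_41_69 hs).p021 (l0_48_69 hs).p021 (l9_48_62 hs).p012).p012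
theorem l24_41_55 : Line w (q24 s) (q41 s) (q55 s) :=
  (Line.img (l3_9_24 hs).p102 (l9_41_69 hs).p021 (l3_47_69 hs).p021 (l9_47_55 hs).p012).p012
theorem l17_47_57 : Line w (q17 s) (q47 s) (q57 s) :=
  (Line.pre (l3_30_57 hs).p201 (l57_69_72 hs).p012 (l3_47_69 hs).p021 (l17_30_72 hs).p120).p210
theorem l14_53_56 : Line w (q14 s) (q53 s) (q56 s) :=
  (Line.pre (l27_40_53 hs).p201 (l24_53_79 hs).p120 (l14_27_79 hs).p120 (l24_40_56 hs).p102).p102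
theorem l14_35_72 : Line w (q14 s) (q35 s) (q72 s) :=
  (Line.pre (l9_27_72 hs).p210 (l72_77_79 hs).p021 (l14_27_79 hs).p120 (l9_35_77 hs).p021).p120
theorem l0_31_62 : Line w (q0 s) (q31 s) (q62 s) :=
  (Line.pre (l0_9_18 hs).p012 (l0_41_79 hs).p021 (l9_31_79 hs).p021 (l18_41_62 hs).p012).p012
theorem l27_31_35 : Line w (q27 s) (q31 s) (q35 s) :=
  (Line.pre (l9_27_72 hs).p102 (l14_27_79 hs).p120 (l9_31_79 hs).p021 (l14_35_72 hs).p201).p012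
theorem l3_16_20 : Line w (q3 s) (q16 s) (q20 s) :=
  (Line.pre (l3_27_60 hs).p012 (l3_41_77 hs).p021 (l16_27_77 hs).p120 (l20_41_60 hs).p210).p012
theorem l9_14_16 : Line w (q9 s) (q14 s) (q16 s) :=
  (Line.pre (l9_27_72 hs).p012 (l9_35_77 hs).p021 (l16_27_77 hs).p120 (l14_35_72 hs).p210).p021
theorem l16_51_61 : Line w (q16 s) (q51 s) (q61 s) :=
  (Line.pre (l27_39_51 hs).p201 (l18_51_77 hs).p120 (l16_27_77 hs).p120 (l18_39_61 hs).p102).p102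
theorem l3_35_55 : Line w (q3 s) (q35 s) (q55 s) :=
  (Line.pre (l3_9_24 hs).p012 (l3_41_77 hs).p021 (l9_35_77 hs).p021 (l24_41_55 hs).p012).p012
theorem l13_46_60 : Line w (q13 s) (q46 s) (q60 s) :=
  (Line.pre (l3_27_60 hs).p210 (l60_70_80 hs).p021 (l13_27_80 hs).p120 (l3_46_70 hs).p021).p120
theorem l0_38_73 : Line w (q0 s) (q38 s) (q73 s) :=
  (Line.pre (l0_3_6 hs).p012 (l0_40_80 hs).p021 (l3_38_80 hs).p021 (l6_40_73 hs).p012).p012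
theorem l27_38_46 : Line w (q27 s) (q38 s) (q46 s) :=
  (Line.pre (l3_27_60 hs).p102 (l13_27_80 hs).p120 (l3_38_80 hs).p021 (l13_46_60 hs).p201).p012
theorem l17_38_67 : Line w (q17 s) (q38 s) (q67 s) :=
  (Line.pre (l3_49_67 hs).p201 (l54_67_80 hs).p120 (l3_38_80 hs).p021 (l17_49_54 hs).p120).p210
theorem l3_13_23 : Line w (q3 s) (q13 s) (q23 s) :=
  (Line.pre (l3_27_60 hs).p012 (l3_46_70 hs).p021 (l23_27_70 hs).p120 (l13_46_60 hs).p210).p021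
theorem l7_9_23 : Line w (q7 s) (q9 s) (q23 s) :=
  (Line.pre (l7_27_59 hs).p012 (l7_53_70 hs).p021 (l23_27_70 hs).p120 (l9_53_59 hs).p210).p021
theorem l24_32_65 : Line w (q24 s) (q32 s) (q65 s) :=
  (Line.pre (l3_9_24 hs).p210 (l24_51_78 hs).p021 (l9_32_78 hs).p021 (l3_51_65 hs).p012).p012
theorem l0_37_74 : Line w (q0 s) (q37 s) (q74 s) :=
  (Line.pre (l0_3_6 hs).p012 (l0_39_78 hs).p021 (l3_37_78 hs).p021 (l6_39_74 hs).p012).p012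
theorem l9_37_65 : Line w (q9 s) (q37 s) (q65 s) :=
  (Line.pre (l3_9_24 hs).p102 (l9_32_78 hs).p021 (l3_37_78 hs).p021 (l24_32_65 hs).p012).p012
theorem l3_32_58 : Line w (q3 s) (q32 s) (q58 s) :=
  (Line.pre (l3_9_24 hs).p012 (l3_51_65 hs).p012 (l9_51_58 hs).p012 (l24_32_65 hs).p021).p021
theorem l12_48_58 : Line w (q12 s) (q48 s) (q58 s) :=
  (Line.pre (l9_12_15 hs).p102 (l12_51_54 hs).p012 (l9_51_58 hs).p012 (l15_48_54 hs).p021).p021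
theorem l17_46_58 : Line w (q17 s) (q46 s) (q58 s) :=
  (Line.pre (l9_13_17 hs).p201 (l17_51_60 hs).p012 (l9_51_58 hs).p012 (l13_46_60 hs).p021).p021
theorem l17_50_56 : Line w (q17 s) (q50 s) (q56 s) :=
  (Line.img (l9_46_56 hs).p102 (l46_50_51 hs).p021 (l9_51_58 hs).p012 (l17_46_58 hs).p120).p210
theorem l56_58_60 : Line w (q56 s) (q58 s) (q60 s) :=
  (Line.pre (l9_50_60 hs).p201 (l17_51_60 hs).p210 (l9_51_58 hs).p012 (l17_50_56 hs).p102).p210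
theorem l12_42_65 : Line w (q12 s) (q42 s) (q65 s) :=
  (Line.pre (l3_12_21 hs).p102 (l12_51_54 hs).p012 (l3_51_65 hs).p012 (l21_42_54 hs).p021).p021
theorem l22_35_65 : Line w (q22 s) (q35 s) (q65 s) :=
  (Line.pre (l3_14_22 hs).p201 (l22_51_72 hs).p012 (l3_51_65 hs).p012 (l14_35_72 hs).p021).p021
theorem l22_43_55 : Line w (q22 s) (q43 s) (q55 s) :=
  (Line.img (l3_35_55 hs).p102 (l35_43_51 hs).p021 (l3_51_65 hs).p012 (l22_35_65 hs).p120).p210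
theorem l55_65_72 : Line w (q55 s) (q65 s) (q72 s) :=
  (Line.pre (l3_43_72 hs).p201 (l22_51_72 hs).p210 (l3_51_65 hs).p012 (l22_43_55 hs).p102).p210
theorem l24_29_67 : Line w (q24 s) (q29 s) (q67 s) :=
  (Line.img (l3_9_24 hs).p012 (l3_49_67 hs).p012 (l9_49_61 hs).p012 (l3_29_61 hs).p021).p021
theorem l5_44_72 : Line w (q5 s) (q44 s) (q72 s) :=
  (Line.img (l9_27_72 hs).p102 (l27_44_49 hs).p021 (l9_49_61 hs).p012 (l5_27_61 hs).p120).p210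
theorem l61_63_77 : Line w (q61 s) (q63 s) (q77 s) :=
  (Line.pre (l9_36_63 hs).p201 (l6_49_63 hs).p210 (l9_49_61 hs).p012 (l6_36_77 hs).p102).p102
theorem l8_34_60 : Line w (q8 s) (q34 s) (q60 s) :=
  (Line.pre (l9_34_75 hs).p102 (l22_34_63 hs).p102 (l8_9_22 hs).p120 (l60_63_75 hs).p210).p102
theorem l8_36_75 : Line w (q8 s) (q36 s) (q75 s) :=
  (Line.pre (l9_36_63 hs).p102 (l22_36_60 hs).p102 (l8_9_22 hs).p120 (l60_63_75 hs).p102).p102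
theorem l8_44_79 : Line w (q8 s) (q44 s) (q79 s) :=
  (Line.pre (l9_44_68 hs).p102 (l22_44_54 hs).p102 (l8_9_22 hs).p120 (l54_68_79 hs).p102).p102
theorem l34_36_50 : Line w (q34 s) (q36 s) (q50 s) :=
  (Line.img (l9_50_60 hs).p201 (l22_36_60 hs).p201 (l8_9_22 hs).p120 (l8_34_60 hs).p201).p210
theorem l24_28_68 : Line w (q24 s) (q28 s) (q68 s) :=
  (Line.img (l3_9_24 hs).p102 (l9_44_68 hs).p012 (l3_44_74 hs).p012 (l9_28_74 hs).p021).p021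
theorem l10_49_60 : Line w (q10 s) (q49 s) (q60 s) :=
  (Line.img (l3_27_60 hs).p102 (l27_44_49 hs).p012 (l3_44_74 hs).p012 (l10_27_74 hs).p120).p210
theorem l74_75_79 : Line w (q74 s) (q75 s) (q79 s) :=
  (Line.pre (l3_36_79 hs).p201 (l8_44_79 hs).p210 (l3_44_74 hs).p012 (l8_36_75 hs).p102).p120
theorem l19_38_54 : Line w (q19 s) (q38 s) (q54 s) :=
  (Line.pre (l3_38_80 hs).p102 (l17_38_67 hs).p102 (l3_17_19 hs).p012 (l54_67_80 hs).p210).p102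
theorem l19_53_77 : Line w (q19 s) (q53 s) (q77 s) :=
  (Line.pre (l3_53_63 hs).p102 (l17_53_61 hs).p102 (l3_17_19 hs).p012 (l61_63_77 hs).p102).p102
theorem l19_36_56 : Line w (q19 s) (q36 s) (q56 s) :=
  (Line.pre (l3_34_56 hs).p201 (l17_50_56 hs).p201 (l3_17_19 hs).p012 (l34_36_50 hs).p021).p120
theorem l3_10_26 : Line w (q3 s) (q10 s) (q26 s) :=
  (Line.pre (l3_27_60 hs).p012 (l3_49_67 hs).p021 (l26_27_67 hs).p120 (l10_49_60 hs).p210).p021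
theorem l18_22_26 : Line w (q18 s) (q22 s) (q26 s) :=
  (Line.pre (l18_27_63 hs).p012 (l18_34_67 hs).p021 (l26_27_67 hs).p120 (l22_34_63 hs).p210).p021
theorem l7_17_24 : Line w (q7 s) (q17 s) (q24 s) :=
  (Line.pre (l17_27_76 hs).p012 (l17_45_59 hs).p021 (l7_27_59 hs).p120 (l24_45_76 hs).p210).p102
theorem l7_32_54 : Line w (q7 s) (q32 s) (q54 s) :=
  (Line.pre (l0_27_54 hs).p210 (l54_59_61 hs).p012 (l7_27_59 hs).p120 (l0_32_61 hs).p021).p120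
theorem l9_29_73 : Line w (q9 s) (q29 s) (q73 s) :=
  (Line.pre (l3_9_24 hs).p102 (l9_42_67 hs).p012 (l3_42_73 hs).p012 (l24_29_67 hs).p021).p021
theorem l56_63_73 : Line w (q56 s) (q63 s) (q73 s) :=
  (Line.pre (l3_53_63 hs).p201 (l14_42_63 hs).p210 (l3_42_73 hs).p012 (l14_53_56 hs).p102).p201
theorem l54_65_73 : Line w (q54 s) (q65 s) (q73 s) :=
  (Line.pre (l3_51_65 hs).p201 (l12_42_65 hs).p210 (l3_42_73 hs).p012 (l12_51_54 hs).p102).p201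
theorem l18_37_56 : Line w (q18 s) (q37 s) (q56 s) :=
  (Line.pre (l3_15_18 hs).p201 (l18_34_67 hs).p012 (l3_34_56 hs).p012 (l15_37_67 hs).p021).p021
theorem l6_17_25 : Line w (q6 s) (q17 s) (q25 s) :=
  (Line.pre (l6_27_57 hs).p012 (l6_47_68 hs).p021 (l25_27_68 hs).p120 (l17_47_57 hs).p210).p021
theorem l5_9_25 : Line w (q5 s) (q9 s) (q25 s) :=
  (Line.pre (l9_27_72 hs).p012 (l9_44_68 hs).p021 (l25_27_68 hs).p120 (l5_44_72 hs).p210).p201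
theorem l20_22_24 : Line w (q20 s) (q22 s) (q24 s) :=
  (Line.pre (l22_27_71 hs).p012 (l22_33_64 hs).p021 (l20_27_64 hs).p120 (l24_33_71 hs).p210).p102
theorem l22_30_66 : Line w (q22 s) (q30 s) (q66 s) :=
  (Line.img (l24_27_66 hs).p012 (l24_30_64 hs).p021 (l20_27_64 hs).p120 (l20_22_24 hs).p201).p210
theorem l20_33_66 : Line w (q20 s) (q33 s) (q66 s) :=
  (Line.pre (l27_30_33 hs).p201 (l22_33_64 hs).p120 (l20_27_64 hs).p120 (l22_30_66 hs).p102).p102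
theorem l20_37_54 : Line w (q20 s) (q37 s) (q54 s) :=
  (Line.pre (l0_27_54 hs).p210 (l54_64_74 hs).p012 (l20_27_64 hs).p120 (l0_37_74 hs).p021).p120
theorem l64_66_71 : Line w (q64 s) (q66 s) (q71 s) :=
  (Line.pre (l24_27_66 hs).p210 (l20_33_66 hs).p201 (l20_27_64 hs).p102 (l24_33_71 hs).p012).p102
theorem l20_53_76 : Line w (q20 s) (q53 s) (q76 s) :=
  (Line.pre (l17_27_76 hs).p210 (l61_64_76 hs).p210 (l20_27_64 hs).p120 (l17_53_61 hs).p021).p120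
theorem l3_28_62 : Line w (q3 s) (q28 s) (q62 s) :=
  (Line.pre (l3_9_24 hs).p012 (l3_48_68 hs).p012 (l9_48_62 hs).p012 (l24_28_68 hs).p021).p021
theorem l54_58_62 : Line w (q54 s) (q58 s) (q62 s) :=
  (Line.pre (l9_51_58 hs).p201 (l12_48_58 hs).p210 (l9_48_62 hs).p012 (l12_51_54 hs).p102).p201
theorem l6_32_55 : Line w (q6 s) (q32 s) (q55 s) :=
  (Line.pre (l6_9_21 hs).p012 (l6_47_68 hs).p012 (l9_47_55 hs).p012 (l21_32_68 hs).p021).p021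
theorem l0_5_7 : Line w (q0 s) (q5 s) (q7 s) :=
  (Line.pre (l0_27_54 hs).p012 (l0_32_61 hs).p021 (l5_27_61 hs).p120 (l7_32_54 hs).p210).p012
theorem l5_16_18 : Line w (q5 s) (q16 s) (q18 s) :=
  (Line.pre (l16_27_77 hs).p012 (l16_51_61 hs).p021 (l5_27_61 hs).p120 (l18_51_77 hs).p210).p102
theorem l16_39_63 : Line w (q16 s) (q39 s) (q63 s) :=
  (Line.img (l18_27_63 hs).p012 (l18_39_61 hs).p021 (l5_27_61 hs).p120 (l5_16_18 hs).p201).p210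
theorem l5_51_63 : Line w (q5 s) (q51 s) (q63 s) :=
  (Line.pre (l27_39_51 hs).p201 (l16_51_61 hs).p120 (l5_27_61 hs).p120 (l16_39_63 hs).p102).p102
theorem l5_53_64 : Line w (q5 s) (q53 s) (q64 s) :=
  (Line.pre (l20_27_64 hs).p210 (l61_64_76 hs).p102 (l5_27_61 hs).p120 (l20_53_76 hs).p021).p120
theorem l0_29_55 : Line w (q0 s) (q29 s) (q55 s) :=
  (Line.pre (l0_3_6 hs).p012 (l0_32_61 hs).p021 (l3_29_61 hs).p021 (l6_32_55 hs).p012).p012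
theorem l19_29_63 : Line w (q19 s) (q29 s) (q63 s) :=
  (Line.pre (l3_53_63 hs).p201 (l61_63_77 hs).p102 (l3_29_61 hs).p021 (l19_53_77 hs).p120).p210
theorem l4_9_26 : Line w (q4 s) (q9 s) (q26 s) :=
  (Line.pre (l0_9_18 hs).p102 (l8_9_22 hs).p102 (l0_4_8 hs).p021 (l18_22_26 hs).p012).p102
theorem l4_27_62 : Line w (q4 s) (q27 s) (q62 s) :=
  (Line.pre (l0_27_54 hs).p102 (l8_27_58 hs).p102 (l0_4_8 hs).p021 (l54_58_62 hs).p012).p102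
theorem l4_51_64 : Line w (q4 s) (q51 s) (q64 s) :=
  (Line.pre (l0_51_66 hs).p102 (l8_51_71 hs).p102 (l0_4_8 hs).p021 (l64_66_71 hs).p120).p102
theorem l1_9_20 : Line w (q1 s) (q9 s) (q20 s) :=
  (Line.pre (l3_9_24 hs).p102 (l8_9_22 hs).p102 (l1_3_8 hs).p120 (l20_22_24 hs).p210).p102
theorem l1_27_56 : Line w (q1 s) (q27 s) (q56 s) :=
  (Line.pre (l3_27_60 hs).p102 (l8_27_58 hs).p102 (l1_3_8 hs).p120 (l56_58_60 hs).p210).p102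
theorem l1_36_74 : Line w (q1 s) (q36 s) (q74 s) :=
  (Line.pre (l3_36_79 hs).p102 (l8_36_75 hs).p102 (l1_3_8 hs).p120 (l74_75_79 hs).p210).p102
theorem l0_10_20 : Line w (q0 s) (q10 s) (q20 s) :=
  (Line.pre (l0_27_54 hs).p012 (l0_37_74 hs).p021 (l10_27_74 hs).p120 (l20_37_54 hs).p210).p012
theorem l1_10_19 : Line w (q1 s) (q10 s) (q19 s) :=
  (Line.pre (l1_27_56 hs).p012 (l1_36_74 hs).p021 (l10_27_74 hs).p120 (l19_36_56 hs).p210).p012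
theorem l0_28_56 : Line w (q0 s) (q28 s) (q56 s) :=
  (Line.pre (l0_9_18 hs).p012 (l0_37_74 hs).p021 (l9_28_74 hs).p021 (l18_37_56 hs).p012).p012
theorem l19_28_64 : Line w (q19 s) (q28 s) (q64 s) :=
  (Line.pre (l9_38_64 hs).p201 (l54_64_74 hs).p120 (l9_28_74 hs).p021 (l19_38_54 hs).p120).p210
theorem l3_11_25 : Line w (q3 s) (q11 s) (q25 s) :=
  (Line.pre (l0_3_6 hs).p102 (l3_17_19 hs).p021 (l0_11_19 hs).p021 (l6_17_25 hs).p012).p012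
theorem l9_10_11 : Line w (q9 s) (q10 s) (q11 s) :=
  (Line.pre (l0_10_20 hs).p102 (l1_10_19 hs).p120 (l0_11_19 hs).p021 (l1_9_20 hs).p201).p201
theorem l11_27_73 : Line w (q11 s) (q27 s) (q73 s) :=
  (Line.pre (l0_27_54 hs).p102 (l19_27_65 hs).p102 (l0_11_19 hs).p021 (l54_65_73 hs).p012).p102
theorem l0_1_2 : Line w (q0 s) (q1 s) (q2 s) :=
  (Line.pre (l1_9_20 hs).p012 (l1_10_19 hs).p021 (l2_9_19 hs).p120 (l0_10_20 hs).p210).p201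
theorem l2_3_7 : Line w (q2 s) (q3 s) (q7 s) :=
  (Line.pre (l3_9_24 hs).p012 (l3_17_19 hs).p021 (l2_9_19 hs).p120 (l7_17_24 hs).p210).p102
theorem l2_27_55 : Line w (q2 s) (q27 s) (q55 s) :=
  (Line.pre (l9_27_72 hs).p102 (l19_27_65 hs).p102 (l2_9_19 hs).p120 (l55_65_72 hs).p210).p102
theorem l2_28_54 : Line w (q2 s) (q28 s) (q54 s) :=
  (Line.pre (l9_28_74 hs).p102 (l19_28_64 hs).p102 (l2_9_19 hs).p120 (l54_64_74 hs).p210).p102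
theorem l2_29_56 : Line w (q2 s) (q29 s) (q56 s) :=
  (Line.pre (l9_29_73 hs).p102 (l19_29_63 hs).p102 (l2_9_19 hs).p120 (l56_63_73 hs).p210).p102
theorem l27_28_29 : Line w (q27 s) (q28 s) (q29 s) :=
  (Line.pre (l0_28_56 hs).p102 (l2_28_54 hs).p120 (l0_27_54 hs).p021 (l2_29_56 hs).p201).p102
theorem l3_4_5 : Line w (q3 s) (q4 s) (q5 s) :=
  (Line.pre (l5_51_63 hs).p021 (l5_53_64 hs).p012 (l3_53_63 hs).p210 (l4_51_64 hs).p120).p120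
theorem edge0 : ∀ k : Fin 81, ∃ l : Fin 81, l.val = [0,2,1,6,8,7,3,5,4,18,20,19,24,26,25,21,23,22,9,11,10,15,17,16,12,14,13,54,56,55,60,62,61,57,59,58,72,74,73,78,80,79,75,77,76,63,65,64,69,71,70,66,68,67,27,29,28,33,35,34,30,32,31,45,47,46,51,53,52,48,50,49,36,38,37,42,44,43,39,41,40].getD k.val 0 ∧
    s 0 * pt k s * s 0 = pt l s
  | ⟨0, _⟩ => ⟨0, rfl, Line.idem (hs 0)⟩
  | ⟨1, _⟩ => ⟨2, rfl, (l0_1_2 hs).p012.eq⟩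
  | ⟨2, _⟩ => ⟨1, rfl, (l0_1_2 hs).p021.eq⟩
  | ⟨3, _⟩ => ⟨6, rfl, (l0_3_6 hs).p012.eq⟩
  | ⟨4, _⟩ => ⟨8, rfl, (l0_4_8 hs).p012.eq⟩
  | ⟨5, _⟩ => ⟨7, rfl, (l0_5_7 hs).p012.eq⟩
  | ⟨6, _⟩ => ⟨3, rfl, (l0_3_6 hs).p021.eq⟩
  | ⟨7, _⟩ => ⟨5, rfl, (l0_5_7 hs).p021.eq⟩
  | ⟨8, _⟩ => ⟨4, rfl, (l0_4_8 hs).p021.eq⟩
  | ⟨9, _⟩ => ⟨18, rfl, (l0_9_18 hs).p012.eq⟩
  | ⟨10, _⟩ => ⟨20, rfl, (l0_10_20 hs).p012.eq⟩
  | ⟨11, _⟩ => ⟨19, rfl, (l0_11_19 hs).p012.eq⟩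
  | ⟨12, _⟩ => ⟨24, rfl, (l0_12_24 hs).p012.eq⟩
  | ⟨13, _⟩ => ⟨26, rfl, (l0_13_26 hs).p012.eq⟩
  | ⟨14, _⟩ => ⟨25, rfl, (l0_14_25 hs).p012.eq⟩
  | ⟨15, _⟩ => ⟨21, rfl, (l0_15_21 hs).p012.eq⟩
  | ⟨16, _⟩ => ⟨23, rfl, (l0_16_23 hs).p012.eq⟩
  | ⟨17, _⟩ => ⟨22, rfl, (l0_17_22 hs).p012.eq⟩
  | ⟨18, _⟩ => ⟨9, rfl, (l0_9_18 hs).p021.eq⟩
  | ⟨19, _⟩ => ⟨11, rfl, (l0_11_19 hs).p021.eq⟩
  | ⟨20, _⟩ => ⟨10, rfl, (l0_10_20 hs).p021.eq⟩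
  | ⟨21, _⟩ => ⟨15, rfl, (l0_15_21 hs).p021.eq⟩
  | ⟨22, _⟩ => ⟨17, rfl, (l0_17_22 hs).p021.eq⟩
  | ⟨23, _⟩ => ⟨16, rfl, (l0_16_23 hs).p021.eq⟩
  | ⟨24, _⟩ => ⟨12, rfl, (l0_12_24 hs).p021.eq⟩
  | ⟨25, _⟩ => ⟨14, rfl, (l0_14_25 hs).p021.eq⟩
  | ⟨26, _⟩ => ⟨13, rfl, (l0_13_26 hs).p021.eq⟩
  | ⟨27, _⟩ => ⟨54, rfl, (l0_27_54 hs).p012.eq⟩
  | ⟨28, _⟩ => ⟨56, rfl, (l0_28_56 hs).p012.eq⟩
  | ⟨29, _⟩ => ⟨55, rfl, (l0_29_55 hs).p012.eq⟩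
  | ⟨30, _⟩ => ⟨60, rfl, (l0_30_60 hs).p012.eq⟩
  | ⟨31, _⟩ => ⟨62, rfl, (l0_31_62 hs).p012.eq⟩
  | ⟨32, _⟩ => ⟨61, rfl, (l0_32_61 hs).p012.eq⟩
  | ⟨33, _⟩ => ⟨57, rfl, (l0_33_57 hs).p012.eq⟩
  | ⟨34, _⟩ => ⟨59, rfl, (l0_34_59 hs).p012.eq⟩
  | ⟨35, _⟩ => ⟨58, rfl, (l0_35_58 hs).p012.eq⟩
  | ⟨36, _⟩ => ⟨72, rfl, (l0_36_72 hs).p012.eq⟩
  | ⟨37, _⟩ => ⟨74, rfl, (l0_37_74 hs).p012.eq⟩
  | ⟨38, _⟩ => ⟨73, rfl, (l0_38_73 hs).p012.eq⟩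
  | ⟨39, _⟩ => ⟨78, rfl, (l0_39_78 hs).p012.eq⟩
  | ⟨40, _⟩ => ⟨80, rfl, (l0_40_80 hs).p012.eq⟩
  | ⟨41, _⟩ => ⟨79, rfl, (l0_41_79 hs).p012.eq⟩
  | ⟨42, _⟩ => ⟨75, rfl, (l0_42_75 hs).p012.eq⟩
  | ⟨43, _⟩ => ⟨77, rfl, (l0_43_77 hs).p012.eq⟩
  | ⟨44, _⟩ => ⟨76, rfl, (l0_44_76 hs).p012.eq⟩
  | ⟨45, _⟩ => ⟨63, rfl, (l0_45_63 hs).p012.eq⟩
  | ⟨46, _⟩ => ⟨65, rfl, (l0_46_65 hs).p012.eq⟩
  | ⟨47, _⟩ => ⟨64, rfl, (l0_47_64 hs).p012.eq⟩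
  | ⟨48, _⟩ => ⟨69, rfl, (l0_48_69 hs).p012.eq⟩
  | ⟨49, _⟩ => ⟨71, rfl, (l0_49_71 hs).p012.eq⟩
  | ⟨50, _⟩ => ⟨70, rfl, (l0_50_70 hs).p012.eq⟩
  | ⟨51, _⟩ => ⟨66, rfl, (l0_51_66 hs).p012.eq⟩
  | ⟨52, _⟩ => ⟨68, rfl, (l0_52_68 hs).p012.eq⟩
  | ⟨53, _⟩ => ⟨67, rfl, (l0_53_67 hs).p012.eq⟩
  | ⟨54, _⟩ => ⟨27, rfl, (l0_27_54 hs).p021.eq⟩
  | ⟨55, _⟩ => ⟨29, rfl, (l0_29_55 hs).p021.eq⟩
  | ⟨56, _⟩ => ⟨28, rfl, (l0_28_56 hs).p021.eq⟩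
  | ⟨57, _⟩ => ⟨33, rfl, (l0_33_57 hs).p021.eq⟩
  | ⟨58, _⟩ => ⟨35, rfl, (l0_35_58 hs).p021.eq⟩
  | ⟨59, _⟩ => ⟨34, rfl, (l0_34_59 hs).p021.eq⟩
  | ⟨60, _⟩ => ⟨30, rfl, (l0_30_60 hs).p021.eq⟩
  | ⟨61, _⟩ => ⟨32, rfl, (l0_32_61 hs).p021.eq⟩
  | ⟨62, _⟩ => ⟨31, rfl, (l0_31_62 hs).p021.eq⟩
  | ⟨63, _⟩ => ⟨45, rfl, (l0_45_63 hs).p021.eq⟩
  | ⟨64, _⟩ => ⟨47, rfl, (l0_47_64 hs).p021.eq⟩
  | ⟨65, _⟩ => ⟨46, rfl, (l0_46_65 hs).p021.eq⟩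
  | ⟨66, _⟩ => ⟨51, rfl, (l0_51_66 hs).p021.eq⟩
  | ⟨67, _⟩ => ⟨53, rfl, (l0_53_67 hs).p021.eq⟩
  | ⟨68, _⟩ => ⟨52, rfl, (l0_52_68 hs).p021.eq⟩
  | ⟨69, _⟩ => ⟨48, rfl, (l0_48_69 hs).p021.eq⟩
  | ⟨70, _⟩ => ⟨50, rfl, (l0_50_70 hs).p021.eq⟩
  | ⟨71, _⟩ => ⟨49, rfl, (l0_49_71 hs).p021.eq⟩
  | ⟨72, _⟩ => ⟨36, rfl, (l0_36_72 hs).p021.eq⟩
  | ⟨73, _⟩ => ⟨38, rfl, (l0_38_73 hs).p021.eq⟩
  | ⟨74, _⟩ => ⟨37, rfl, (l0_37_74 hs).p021.eq⟩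
  | ⟨75, _⟩ => ⟨42, rfl, (l0_42_75 hs).p021.eq⟩
  | ⟨76, _⟩ => ⟨44, rfl, (l0_44_76 hs).p021.eq⟩
  | ⟨77, _⟩ => ⟨43, rfl, (l0_43_77 hs).p021.eq⟩
  | ⟨78, _⟩ => ⟨39, rfl, (l0_39_78 hs).p021.eq⟩
  | ⟨79, _⟩ => ⟨41, rfl, (l0_41_79 hs).p021.eq⟩
  | ⟨80, _⟩ => ⟨40, rfl, (l0_40_80 hs).p021.eq⟩
  | ⟨n + 81, h⟩ => absurd h (by omega)
theorem edge1 : ∀ k : Fin 81, ∃ l : Fin 81, l.val = [54,56,55,60,62,61,57,59,58,72,74,73,78,80,79,75,77,76,63,65,64,69,71,70,66,68,67,27,29,28,33,35,34,30,32,31,45,47,46,51,53,52,48,50,49,36,38,37,42,44,43,39,41,40,0,2,1,6,8,7,3,5,4,18,20,19,24,26,25,21,23,22,9,11,10,15,17,16,12,14,13].getD k.val 0 ∧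
    s 1 * pt k s * s 1 = pt l s
  | ⟨0, _⟩ => ⟨54, rfl, (l0_27_54 hs).p102.eq⟩
  | ⟨1, _⟩ => ⟨56, rfl, (l1_27_56 hs).p102.eq⟩
  | ⟨2, _⟩ => ⟨55, rfl, (l2_27_55 hs).p102.eq⟩
  | ⟨3, _⟩ => ⟨60, rfl, (l3_27_60 hs).p102.eq⟩
  | ⟨4, _⟩ => ⟨62, rfl, (l4_27_62 hs).p102.eq⟩
  | ⟨5, _⟩ => ⟨61, rfl, (l5_27_61 hs).p102.eq⟩
  | ⟨6, _⟩ => ⟨57, rfl, (l6_27_57 hs).p102.eq⟩
  | ⟨7, _⟩ => ⟨59, rfl, (l7_27_59 hs).p102.eq⟩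
  | ⟨8, _⟩ => ⟨58, rfl, (l8_27_58 hs).p102.eq⟩
  | ⟨9, _⟩ => ⟨72, rfl, (l9_27_72 hs).p102.eq⟩
  | ⟨10, _⟩ => ⟨74, rfl, (l10_27_74 hs).p102.eq⟩
  | ⟨11, _⟩ => ⟨73, rfl, (l11_27_73 hs).p102.eq⟩
  | ⟨12, _⟩ => ⟨78, rfl, (l12_27_78 hs).p102.eq⟩
  | ⟨13, _⟩ => ⟨80, rfl, (l13_27_80 hs).p102.eq⟩
  | ⟨14, _⟩ => ⟨79, rfl, (l14_27_79 hs).p102.eq⟩
  | ⟨15, _⟩ => ⟨75, rfl, (l15_27_75 hs).p102.eq⟩
  | ⟨16, _⟩ => ⟨77, rfl, (l16_27_77 hs).p102.eq⟩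
  | ⟨17, _⟩ => ⟨76, rfl, (l17_27_76 hs).p102.eq⟩
  | ⟨18, _⟩ => ⟨63, rfl, (l18_27_63 hs).p102.eq⟩
  | ⟨19, _⟩ => ⟨65, rfl, (l19_27_65 hs).p102.eq⟩
  | ⟨20, _⟩ => ⟨64, rfl, (l20_27_64 hs).p102.eq⟩
  | ⟨21, _⟩ => ⟨69, rfl, (l21_27_69 hs).p102.eq⟩
  | ⟨22, _⟩ => ⟨71, rfl, (l22_27_71 hs).p102.eq⟩
  | ⟨23, _⟩ => ⟨70, rfl, (l23_27_70 hs).p102.eq⟩
  | ⟨24, _⟩ => ⟨66, rfl, (l24_27_66 hs).p102.eq⟩
  | ⟨25, _⟩ => ⟨68, rfl, (l25_27_68 hs).p102.eq⟩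
  | ⟨26, _⟩ => ⟨67, rfl, (l26_27_67 hs).p102.eq⟩
  | ⟨27, _⟩ => ⟨27, rfl, Line.idem (hs 1)⟩
  | ⟨28, _⟩ => ⟨29, rfl, (l27_28_29 hs).p012.eq⟩
  | ⟨29, _⟩ => ⟨28, rfl, (l27_28_29 hs).p021.eq⟩
  | ⟨30, _⟩ => ⟨33, rfl, (l27_30_33 hs).p012.eq⟩
  | ⟨31, _⟩ => ⟨35, rfl, (l27_31_35 hs).p012.eq⟩
  | ⟨32, _⟩ => ⟨34, rfl, (l27_32_34 hs).p012.eq⟩
  | ⟨33, _⟩ => ⟨30, rfl, (l27_30_33 hs).p021.eq⟩
  | ⟨34, _⟩ => ⟨32, rfl, (l27_32_34 hs).p021.eq⟩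
  | ⟨35, _⟩ => ⟨31, rfl, (l27_31_35 hs).p021.eq⟩
  | ⟨36, _⟩ => ⟨45, rfl, (l27_36_45 hs).p012.eq⟩
  | ⟨37, _⟩ => ⟨47, rfl, (l27_37_47 hs).p012.eq⟩
  | ⟨38, _⟩ => ⟨46, rfl, (l27_38_46 hs).p012.eq⟩
  | ⟨39, _⟩ => ⟨51, rfl, (l27_39_51 hs).p012.eq⟩
  | ⟨40, _⟩ => ⟨53, rfl, (l27_40_53 hs).p012.eq⟩
  | ⟨41, _⟩ => ⟨52, rfl, (l27_41_52 hs).p012.eq⟩
  | ⟨42, _⟩ => ⟨48, rfl, (l27_42_48 hs).p012.eq⟩
  | ⟨43, _⟩ => ⟨50, rfl, (l27_43_50 hs).p012.eq⟩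
  | ⟨44, _⟩ => ⟨49, rfl, (l27_44_49 hs).p012.eq⟩
  | ⟨45, _⟩ => ⟨36, rfl, (l27_36_45 hs).p021.eq⟩
  | ⟨46, _⟩ => ⟨38, rfl, (l27_38_46 hs).p021.eq⟩
  | ⟨47, _⟩ => ⟨37, rfl, (l27_37_47 hs).p021.eq⟩
  | ⟨48, _⟩ => ⟨42, rfl, (l27_42_48 hs).p021.eq⟩
  | ⟨49, _⟩ => ⟨44, rfl, (l27_44_49 hs).p021.eq⟩
  | ⟨50, _⟩ => ⟨43, rfl, (l27_43_50 hs).p021.eq⟩
  | ⟨51, _⟩ => ⟨39, rfl, (l27_39_51 hs).p021.eq⟩
  | ⟨52, _⟩ => ⟨41, rfl, (l27_41_52 hs).p021.eq⟩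
  | ⟨53, _⟩ => ⟨40, rfl, (l27_40_53 hs).p021.eq⟩
  | ⟨54, _⟩ => ⟨0, rfl, (l0_27_54 hs).p120.eq⟩
  | ⟨55, _⟩ => ⟨2, rfl, (l2_27_55 hs).p120.eq⟩
  | ⟨56, _⟩ => ⟨1, rfl, (l1_27_56 hs).p120.eq⟩
  | ⟨57, _⟩ => ⟨6, rfl, (l6_27_57 hs).p120.eq⟩
  | ⟨58, _⟩ => ⟨8, rfl, (l8_27_58 hs).p120.eq⟩
  | ⟨59, _⟩ => ⟨7, rfl, (l7_27_59 hs).p120.eq⟩
  | ⟨60, _⟩ => ⟨3, rfl, (l3_27_60 hs).p120.eq⟩
  | ⟨61, _⟩ => ⟨5, rfl, (l5_27_61 hs).p120.eq⟩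
  | ⟨62, _⟩ => ⟨4, rfl, (l4_27_62 hs).p120.eq⟩
  | ⟨63, _⟩ => ⟨18, rfl, (l18_27_63 hs).p120.eq⟩
  | ⟨64, _⟩ => ⟨20, rfl, (l20_27_64 hs).p120.eq⟩
  | ⟨65, _⟩ => ⟨19, rfl, (l19_27_65 hs).p120.eq⟩
  | ⟨66, _⟩ => ⟨24, rfl, (l24_27_66 hs).p120.eq⟩
  | ⟨67, _⟩ => ⟨26, rfl, (l26_27_67 hs).p120.eq⟩
  | ⟨68, _⟩ => ⟨25, rfl, (l25_27_68 hs).p120.eq⟩
  | ⟨69, _⟩ => ⟨21, rfl, (l21_27_69 hs).p120.eq⟩
  | ⟨70, _⟩ => ⟨23, rfl, (l23_27_70 hs).p120.eq⟩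
  | ⟨71, _⟩ => ⟨22, rfl, (l22_27_71 hs).p120.eq⟩
  | ⟨72, _⟩ => ⟨9, rfl, (l9_27_72 hs).p120.eq⟩
  | ⟨73, _⟩ => ⟨11, rfl, (l11_27_73 hs).p120.eq⟩
  | ⟨74, _⟩ => ⟨10, rfl, (l10_27_74 hs).p120.eq⟩
  | ⟨75, _⟩ => ⟨15, rfl, (l15_27_75 hs).p120.eq⟩
  | ⟨76, _⟩ => ⟨17, rfl, (l17_27_76 hs).p120.eq⟩
  | ⟨77, _⟩ => ⟨16, rfl, (l16_27_77 hs).p120.eq⟩
  | ⟨78, _⟩ => ⟨12, rfl, (l12_27_78 hs).p120.eq⟩
  | ⟨79, _⟩ => ⟨14, rfl, (l14_27_79 hs).p120.eq⟩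
  | ⟨80, _⟩ => ⟨13, rfl, (l13_27_80 hs).p120.eq⟩
  | ⟨n + 81, h⟩ => absurd h (by omega)
theorem edge2 : ∀ k : Fin 81, ∃ l : Fin 81, l.val = [18,20,19,24,26,25,21,23,22,9,11,10,15,17,16,12,14,13,0,2,1,6,8,7,3,5,4,72,74,73,80,79,78,76,75,77,63,65,64,71,70,69,67,66,68,54,56,55,62,61,60,58,57,59,45,47,46,52,51,53,50,49,48,36,38,37,43,42,44,41,40,39,27,29,28,34,33,35,32,31,30].getD k.val 0 ∧
    s 2 * pt k s * s 2 = pt l s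
  | ⟨0, _⟩ => ⟨18, rfl, (l0_9_18 hs).p102.eq⟩
  | ⟨1, _⟩ => ⟨20, rfl, (l1_9_20 hs).p102.eq⟩
  | ⟨2, _⟩ => ⟨19, rfl, (l2_9_19 hs).p102.eq⟩
  | ⟨3, _⟩ => ⟨24, rfl, (l3_9_24 hs).p102.eq⟩
  | ⟨4, _⟩ => ⟨26, rfl, (l4_9_26 hs).p102.eq⟩
  | ⟨5, _⟩ => ⟨25, rfl, (l5_9_25 hs).p102.eq⟩
  | ⟨6, _⟩ => ⟨21, rfl, (l6_9_21 hs).p102.eq⟩
  | ⟨7, _⟩ => ⟨23, rfl, (l7_9_23 hs).p102.eq⟩
  | ⟨8, _⟩ => ⟨22, rfl, (l8_9_22 hs).p102.eq⟩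
  | ⟨9, _⟩ => ⟨9, rfl, Line.idem (hs 2)⟩
  | ⟨10, _⟩ => ⟨11, rfl, (l9_10_11 hs).p012.eq⟩
  | ⟨11, _⟩ => ⟨10, rfl, (l9_10_11 hs).p021.eq⟩
  | ⟨12, _⟩ => ⟨15, rfl, (l9_12_15 hs).p012.eq⟩
  | ⟨13, _⟩ => ⟨17, rfl, (l9_13_17 hs).p012.eq⟩
  | ⟨14, _⟩ => ⟨16, rfl, (l9_14_16 hs).p012.eq⟩
  | ⟨15, _⟩ => ⟨12, rfl, (l9_12_15 hs).p021.eq⟩
  | ⟨16, _⟩ => ⟨14, rfl, (l9_14_16 hs).p021.eq⟩
  | ⟨17, _⟩ => ⟨13, rfl, (l9_13_17 hs).p021.eq⟩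
  | ⟨18, _⟩ => ⟨0, rfl, (l0_9_18 hs).p120.eq⟩
  | ⟨19, _⟩ => ⟨2, rfl, (l2_9_19 hs).p120.eq⟩
  | ⟨20, _⟩ => ⟨1, rfl, (l1_9_20 hs).p120.eq⟩
  | ⟨21, _⟩ => ⟨6, rfl, (l6_9_21 hs).p120.eq⟩
  | ⟨22, _⟩ => ⟨8, rfl, (l8_9_22 hs).p120.eq⟩
  | ⟨23, _⟩ => ⟨7, rfl, (l7_9_23 hs).p120.eq⟩
  | ⟨24, _⟩ => ⟨3, rfl, (l3_9_24 hs).p120.eq⟩
  | ⟨25, _⟩ => ⟨5, rfl, (l5_9_25 hs).p120.eq⟩
  | ⟨26, _⟩ => ⟨4, rfl, (l4_9_26 hs).p120.eq⟩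
  | ⟨27, _⟩ => ⟨72, rfl, (l9_27_72 hs).p012.eq⟩
  | ⟨28, _⟩ => ⟨74, rfl, (l9_28_74 hs).p012.eq⟩
  | ⟨29, _⟩ => ⟨73, rfl, (l9_29_73 hs).p012.eq⟩
  | ⟨30, _⟩ => ⟨80, rfl, (l9_30_80 hs).p012.eq⟩
  | ⟨31, _⟩ => ⟨79, rfl, (l9_31_79 hs).p012.eq⟩
  | ⟨32, _⟩ => ⟨78, rfl, (l9_32_78 hs).p012.eq⟩
  | ⟨33, _⟩ => ⟨76, rfl, (l9_33_76 hs).p012.eq⟩
  | ⟨34, _⟩ => ⟨75, rfl, (l9_34_75 hs).p012.eq⟩
  | ⟨35, _⟩ => ⟨77, rfl, (l9_35_77 hs).p012.eq⟩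
  | ⟨36, _⟩ => ⟨63, rfl, (l9_36_63 hs).p012.eq⟩
  | ⟨37, _⟩ => ⟨65, rfl, (l9_37_65 hs).p012.eq⟩
  | ⟨38, _⟩ => ⟨64, rfl, (l9_38_64 hs).p012.eq⟩
  | ⟨39, _⟩ => ⟨71, rfl, (l9_39_71 hs).p012.eq⟩
  | ⟨40, _⟩ => ⟨70, rfl, (l9_40_70 hs).p012.eq⟩
  | ⟨41, _⟩ => ⟨69, rfl, (l9_41_69 hs).p012.eq⟩
  | ⟨42, _⟩ => ⟨67, rfl, (l9_42_67 hs).p012.eq⟩
  | ⟨43, _⟩ => ⟨66, rfl, (l9_43_66 hs).p012.eq⟩
  | ⟨44, _⟩ => ⟨68, rfl, (l9_44_68 hs).p012.eq⟩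
  | ⟨45, _⟩ => ⟨54, rfl, (l9_45_54 hs).p012.eq⟩
  | ⟨46, _⟩ => ⟨56, rfl, (l9_46_56 hs).p012.eq⟩
  | ⟨47, _⟩ => ⟨55, rfl, (l9_47_55 hs).p012.eq⟩
  | ⟨48, _⟩ => ⟨62, rfl, (l9_48_62 hs).p012.eq⟩
  | ⟨49, _⟩ => ⟨61, rfl, (l9_49_61 hs).p012.eq⟩
  | ⟨50, _⟩ => ⟨60, rfl, (l9_50_60 hs).p012.eq⟩
  | ⟨51, _⟩ => ⟨58, rfl, (l9_51_58 hs).p012.eq⟩
  | ⟨52, _⟩ => ⟨57, rfl, (l9_52_57 hs).p012.eq⟩
  | ⟨53, _⟩ => ⟨59, rfl, (l9_53_59 hs).p012.eq⟩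
  | ⟨54, _⟩ => ⟨45, rfl, (l9_45_54 hs).p021.eq⟩
  | ⟨55, _⟩ => ⟨47, rfl, (l9_47_55 hs).p021.eq⟩
  | ⟨56, _⟩ => ⟨46, rfl, (l9_46_56 hs).p021.eq⟩
  | ⟨57, _⟩ => ⟨52, rfl, (l9_52_57 hs).p021.eq⟩
  | ⟨58, _⟩ => ⟨51, rfl, (l9_51_58 hs).p021.eq⟩
  | ⟨59, _⟩ => ⟨53, rfl, (l9_53_59 hs).p021.eq⟩
  | ⟨60, _⟩ => ⟨50, rfl, (l9_50_60 hs).p021.eq⟩
  | ⟨61, _⟩ => ⟨49, rfl, (l9_49_61 hs).p021.eq⟩
  | ⟨62, _⟩ => ⟨48, rfl, (l9_48_62 hs).p021.eq⟩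
  | ⟨63, _⟩ => ⟨36, rfl, (l9_36_63 hs).p021.eq⟩
  | ⟨64, _⟩ => ⟨38, rfl, (l9_38_64 hs).p021.eq⟩
  | ⟨65, _⟩ => ⟨37, rfl, (l9_37_65 hs).p021.eq⟩
  | ⟨66, _⟩ => ⟨43, rfl, (l9_43_66 hs).p021.eq⟩
  | ⟨67, _⟩ => ⟨42, rfl, (l9_42_67 hs).p021.eq⟩
  | ⟨68, _⟩ => ⟨44, rfl, (l9_44_68 hs).p021.eq⟩
  | ⟨69, _⟩ => ⟨41, rfl, (l9_41_69 hs).p021.eq⟩
  | ⟨70, _⟩ => ⟨40, rfl, (l9_40_70 hs).p021.eq⟩
  | ⟨71, _⟩ => ⟨39, rfl, (l9_39_71 hs).p021.eq⟩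
  | ⟨72, _⟩ => ⟨27, rfl, (l9_27_72 hs).p021.eq⟩
  | ⟨73, _⟩ => ⟨29, rfl, (l9_29_73 hs).p021.eq⟩
  | ⟨74, _⟩ => ⟨28, rfl, (l9_28_74 hs).p021.eq⟩
  | ⟨75, _⟩ => ⟨34, rfl, (l9_34_75 hs).p021.eq⟩
  | ⟨76, _⟩ => ⟨33, rfl, (l9_33_76 hs).p021.eq⟩
  | ⟨77, _⟩ => ⟨35, rfl, (l9_35_77 hs).p021.eq⟩
  | ⟨78, _⟩ => ⟨32, rfl, (l9_32_78 hs).p021.eq⟩
  | ⟨79, _⟩ => ⟨31, rfl, (l9_31_79 hs).p021.eq⟩
  | ⟨80, _⟩ => ⟨30, rfl, (l9_30_80 hs).p021.eq⟩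
  | ⟨n + 81, h⟩ => absurd h (by omega)
theorem edge3 : ∀ k : Fin 81, ∃ l : Fin 81, l.val = [6,8,7,3,5,4,0,2,1,24,26,25,21,23,22,18,20,19,15,17,16,12,14,13,9,11,10,60,62,61,57,59,58,54,56,55,79,78,80,76,75,77,73,72,74,71,70,69,68,67,66,65,64,63,33,35,34,30,32,31,27,29,28,53,52,51,50,49,48,47,46,45,43,42,44,40,39,41,37,36,38].getD k.val 0 ∧
    s 3 * pt k s * s 3 = pt l s
  | ⟨0, _⟩ => ⟨6, rfl, (l0_3_6 hs).p102.eq⟩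
  | ⟨1, _⟩ => ⟨8, rfl, (l1_3_8 hs).p102.eq⟩
  | ⟨2, _⟩ => ⟨7, rfl, (l2_3_7 hs).p102.eq⟩
  | ⟨3, _⟩ => ⟨3, rfl, Line.idem (hs 3)⟩
  | ⟨4, _⟩ => ⟨5, rfl, (l3_4_5 hs).p012.eq⟩
  | ⟨5, _⟩ => ⟨4, rfl, (l3_4_5 hs).p021.eq⟩
  | ⟨6, _⟩ => ⟨0, rfl, (l0_3_6 hs).p120.eq⟩
  | ⟨7, _⟩ => ⟨2, rfl, (l2_3_7 hs).p120.eq⟩
  | ⟨8, _⟩ => ⟨1, rfl, (l1_3_8 hs).p120.eq⟩
  | ⟨9, _⟩ => ⟨24, rfl, (l3_9_24 hs).p012.eq⟩
  | ⟨10, _⟩ => ⟨26, rfl, (l3_10_26 hs).p012.eq⟩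
  | ⟨11, _⟩ => ⟨25, rfl, (l3_11_25 hs).p012.eq⟩
  | ⟨12, _⟩ => ⟨21, rfl, (l3_12_21 hs).p012.eq⟩
  | ⟨13, _⟩ => ⟨23, rfl, (l3_13_23 hs).p012.eq⟩
  | ⟨14, _⟩ => ⟨22, rfl, (l3_14_22 hs).p012.eq⟩
  | ⟨15, _⟩ => ⟨18, rfl, (l3_15_18 hs).p012.eq⟩
  | ⟨16, _⟩ => ⟨20, rfl, (l3_16_20 hs).p012.eq⟩
  | ⟨17, _⟩ => ⟨19, rfl, (l3_17_19 hs).p012.eq⟩
  | ⟨18, _⟩ => ⟨15, rfl, (l3_15_18 hs).p021.eq⟩
  | ⟨19, _⟩ => ⟨17, rfl, (l3_17_19 hs).p021.eq⟩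
  | ⟨20, _⟩ => ⟨16, rfl, (l3_16_20 hs).p021.eq⟩
  | ⟨21, _⟩ => ⟨12, rfl, (l3_12_21 hs).p021.eq⟩
  | ⟨22, _⟩ => ⟨14, rfl, (l3_14_22 hs).p021.eq⟩
  | ⟨23, _⟩ => ⟨13, rfl, (l3_13_23 hs).p021.eq⟩
  | ⟨24, _⟩ => ⟨9, rfl, (l3_9_24 hs).p021.eq⟩
  | ⟨25, _⟩ => ⟨11, rfl, (l3_11_25 hs).p021.eq⟩
  | ⟨26, _⟩ => ⟨10, rfl, (l3_10_26 hs).p021.eq⟩
  | ⟨27, _⟩ => ⟨60, rfl, (l3_27_60 hs).p012.eq⟩
  | ⟨28, _⟩ => ⟨62, rfl, (l3_28_62 hs).p012.eq⟩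
  | ⟨29, _⟩ => ⟨61, rfl, (l3_29_61 hs).p012.eq⟩
  | ⟨30, _⟩ => ⟨57, rfl, (l3_30_57 hs).p012.eq⟩
  | ⟨31, _⟩ => ⟨59, rfl, (l3_31_59 hs).p012.eq⟩
  | ⟨32, _⟩ => ⟨58, rfl, (l3_32_58 hs).p012.eq⟩
  | ⟨33, _⟩ => ⟨54, rfl, (l3_33_54 hs).p012.eq⟩
  | ⟨34, _⟩ => ⟨56, rfl, (l3_34_56 hs).p012.eq⟩
  | ⟨35, _⟩ => ⟨55, rfl, (l3_35_55 hs).p012.eq⟩
  | ⟨36, _⟩ => ⟨79, rfl, (l3_36_79 hs).p012.eq⟩
  | ⟨37, _⟩ => ⟨78, rfl, (l3_37_78 hs).p012.eq⟩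
  | ⟨38, _⟩ => ⟨80, rfl, (l3_38_80 hs).p012.eq⟩
  | ⟨39, _⟩ => ⟨76, rfl, (l3_39_76 hs).p012.eq⟩
  | ⟨40, _⟩ => ⟨75, rfl, (l3_40_75 hs).p012.eq⟩
  | ⟨41, _⟩ => ⟨77, rfl, (l3_41_77 hs).p012.eq⟩
  | ⟨42, _⟩ => ⟨73, rfl, (l3_42_73 hs).p012.eq⟩
  | ⟨43, _⟩ => ⟨72, rfl, (l3_43_72 hs).p012.eq⟩
  | ⟨44, _⟩ => ⟨74, rfl, (l3_44_74 hs).p012.eq⟩
  | ⟨45, _⟩ => ⟨71, rfl, (l3_45_71 hs).p012.eq⟩
  | ⟨46, _⟩ => ⟨70, rfl, (l3_46_70 hs).p012.eq⟩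
  | ⟨47, _⟩ => ⟨69, rfl, (l3_47_69 hs).p012.eq⟩
  | ⟨48, _⟩ => ⟨68, rfl, (l3_48_68 hs).p012.eq⟩
  | ⟨49, _⟩ => ⟨67, rfl, (l3_49_67 hs).p012.eq⟩
  | ⟨50, _⟩ => ⟨66, rfl, (l3_50_66 hs).p012.eq⟩
  | ⟨51, _⟩ => ⟨65, rfl, (l3_51_65 hs).p012.eq⟩
  | ⟨52, _⟩ => ⟨64, rfl, (l3_52_64 hs).p012.eq⟩
  | ⟨53, _⟩ => ⟨63, rfl, (l3_53_63 hs).p012.eq⟩
  | ⟨54, _⟩ => ⟨33, rfl, (l3_33_54 hs).p021.eq⟩
  | ⟨55, _⟩ => ⟨35, rfl, (l3_35_55 hs).p021.eq⟩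
  | ⟨56, _⟩ => ⟨34, rfl, (l3_34_56 hs).p021.eq⟩
  | ⟨57, _⟩ => ⟨30, rfl, (l3_30_57 hs).p021.eq⟩
  | ⟨58, _⟩ => ⟨32, rfl, (l3_32_58 hs).p021.eq⟩
  | ⟨59, _⟩ => ⟨31, rfl, (l3_31_59 hs).p021.eq⟩
  | ⟨60, _⟩ => ⟨27, rfl, (l3_27_60 hs).p021.eq⟩
  | ⟨61, _⟩ => ⟨29, rfl, (l3_29_61 hs).p021.eq⟩
  | ⟨62, _⟩ => ⟨28, rfl, (l3_28_62 hs).p021.eq⟩
  | ⟨63, _⟩ => ⟨53, rfl, (l3_53_63 hs).p021.eq⟩
  | ⟨64, _⟩ => ⟨52, rfl, (l3_52_64 hs).p021.eq⟩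
  | ⟨65, _⟩ => ⟨51, rfl, (l3_51_65 hs).p021.eq⟩
  | ⟨66, _⟩ => ⟨50, rfl, (l3_50_66 hs).p021.eq⟩
  | ⟨67, _⟩ => ⟨49, rfl, (l3_49_67 hs).p021.eq⟩
  | ⟨68, _⟩ => ⟨48, rfl, (l3_48_68 hs).p021.eq⟩
  | ⟨69, _⟩ => ⟨47, rfl, (l3_47_69 hs).p021.eq⟩
  | ⟨70, _⟩ => ⟨46, rfl, (l3_46_70 hs).p021.eq⟩
  | ⟨71, _⟩ => ⟨45, rfl, (l3_45_71 hs).p021.eq⟩
  | ⟨72, _⟩ => ⟨43, rfl, (l3_43_72 hs).p021.eq⟩
  | ⟨73, _⟩ => ⟨42, rfl, (l3_42_73 hs).p021.eq⟩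
  | ⟨74, _⟩ => ⟨44, rfl, (l3_44_74 hs).p021.eq⟩
  | ⟨75, _⟩ => ⟨40, rfl, (l3_40_75 hs).p021.eq⟩
  | ⟨76, _⟩ => ⟨39, rfl, (l3_39_76 hs).p021.eq⟩
  | ⟨77, _⟩ => ⟨41, rfl, (l3_41_77 hs).p021.eq⟩
  | ⟨78, _⟩ => ⟨37, rfl, (l3_37_78 hs).p021.eq⟩
  | ⟨79, _⟩ => ⟨36, rfl, (l3_36_79 hs).p021.eq⟩
  | ⟨80, _⟩ => ⟨38, rfl, (l3_38_80 hs).p021.eq⟩
  | ⟨n + 81, h⟩ => absurd h (by omega)

end

end CfsgLib.Fischer.FreeLoop
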