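import Cfsg.Agent.Lib.Fischer.TypeTwentyTwoClasses
import Cfsg.Agent.Lib.Fischer.UnitarySemilinearCount
import Cfsg.Agent.Lib.Fischer.PermSign

/-!
Groups of type M(22): the centralizer of a member is generated by the members commuting with it.

The outer diagonal automorphisms are excluded by the three hyperovals on a triangle. An element
inducing the field automorphism on the local group of `a` does so on the local group of a commuting
member `w` which it fixes, and would then permute the class oddly, against perfectness.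
-/

set_option autoImplicit false
set_option linter.unusedSectionVars false

namespace CfsgLib.Fischer.TypeTwentyTwo

open CfsgLib.Fischer CfsgLib.InvChar.FischerProducts CfsgLib.InvChar.FischerHexad
open CfsgLib.InvChar.UnitaryTVTwo CfsgLib.Fischer.UnitaryHyperoval CfsgLib.Fischer.UnitarySemilinear
open CfsgLib.Fischer.PermSign CfsgLib.ReflectionsSpinor

variable {G : Type*} [Group G] [Finite G] {D : Set G}
variable (hD : Cfsg.IsThreeTranspositionGroup D) (hprim : Cfsg.IsPrimitiveUnderConj D)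
  (ht : Cfsg.IsOfTypeM22 G D)

include hD in
theorem conj_mem_perp_iff {a g : G} (hg : Commute g a) {x : G} : g * x * g⁻¹ ∈ perp D a ↔ x ∈ perp D a := by
  have e : MulAut.conj g a = a := by rw [MulAut.conj_apply, hg.eq, mul_inv_cancel_right]
  constructor
  · intro h
    have := CfsgLib.InvChar.FischerHexad.perp_conj hD g⁻¹ h
    rwa [show MulAut.conj g⁻¹ a = a by rw [MulAut.conj_apply, hg.inv_left.eq, mul_inv_cancel_right],
      show MulAut.conj g⁻¹ (g * x * g⁻¹) = x by simp [mul_assoc]] at this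
  · intro h
    have := CfsgLib.InvChar.FischerHexad.perp_conj hD g h
    rwa [e] at this

include hD in
theorem conj_mem_closure_perp {a g : G} (hg : Commute g a) {x : G} (hx : x ∈ Subgroup.closure (perp D a)) :
    g * x * g⁻¹ ∈ Subgroup.closure (perp D a) := by
  have hmap : (Subgroup.closure (perp D a)).map (MulAut.conj g).toMonoidHom ≤ Subgroup.closure (perp D a) := by
    rw [MonoidHom.map_closure]
    refine Subgroup.closure_mono ?_
    rintro _ ⟨y, hy, rfl⟩
    exact (conj_mem_perp_iff hD hg).2 hy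
  exact hmap ⟨x, hx, rfl⟩

include hD in
/-- The automorphism of the local quotient induced by an element fixing the member. -/
theorem exists_aut {a g : G} (hg : Commute g a) {F : Type} [Field F]
    (e : (Subgroup.closure (perp D a) ⧸ Subgroup.center (Subgroup.closure (perp D a))) ≃* Cfsg.PSU 6 F 2) :
    ∃ φ : MulAut (Cfsg.PSU 6 F 2), ∀ x : Subgroup.closure (perp D a),
      φ (quotMap e x) = quotMap e ⟨g * x * g⁻¹, conj_mem_closure_perp hD hg x.2⟩ := by
  have hmap : (Subgroup.closure (perp D a)).map (MulAut.conj g).toMonoidHom = Subgroup.closure (perp D a) := by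
    refine le_antisymm ?_ fun x hx => ?_
    · rintro _ ⟨x, hx, rfl⟩
      exact conj_mem_closure_perp hD hg hx
    · exact ⟨g⁻¹ * x * g⁻¹⁻¹, conj_mem_closure_perp hD hg.inv_left hx, by simp [MulAut.conj_apply, mul_assoc]⟩
  let eH : ↥(Subgroup.closure (perp D a)) ≃* ↥(Subgroup.closure (perp D a)) :=
    ((MulAut.conj g).subgroupMap _).trans (MulEquiv.subgroupCongr hmap)
  refine ⟨(e.symm.trans (QuotientGroup.congr _ _ eH (map_center eH))).trans e, fun x => ?_⟩
  show e (QuotientGroup.congr _ _ eH (map_center eH) (e.symm (e (QuotientGroup.mk' _ x)))) = _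
  rw [e.symm_apply_apply]
  rfl

omit hD hprim ht in
theorem aut_eq {a : G} {F : Type} [Field F]
    (e : (Subgroup.closure (perp D a) ⧸ Subgroup.center (Subgroup.closure (perp D a))) ≃* Cfsg.PSU 6 F 2)
    {φ ψ : MulAut (Cfsg.PSU 6 F 2)} (h : ∀ x, φ (quotMap e x) = ψ (quotMap e x)) : φ = ψ := by
  refine MulEquiv.ext fun p => ?_
  obtain ⟨x, rfl⟩ := (e.surjective.comp (QuotientGroup.mk'_surjective _)) p
  exact h x

include hD in
/-- Changing an element by a member of the local group changes the automorphism by an inner one. -/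
theorem aut_inv_mul {a g : G} {F : Type} [Field F] (hg : Commute g a)
    (e : (Subgroup.closure (perp D a) ⧸ Subgroup.center (Subgroup.closure (perp D a))) ≃* Cfsg.PSU 6 F 2)
    {φ ψ : MulAut (Cfsg.PSU 6 F 2)}
    (hφ : ∀ x : Subgroup.closure (perp D a),
      φ (quotMap e x) = quotMap e ⟨g * x * g⁻¹, conj_mem_closure_perp hD hg x.2⟩)
    {h : Subgroup.closure (perp D a)} (he : φ = MulAut.conj (quotMap e h) * ψ) :
    Commute ((h : G)⁻¹ * g) a ∧ ∀ x y : Subgroup.closure (perp D a),
      (h : G)⁻¹ * g * x * ((h : G)⁻¹ * g)⁻¹ = y → ψ (quotMap e x) = quotMap e y := by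
  refine ⟨((commute_d (H := Subgroup.closure (perp D a)) rfl h.2).symm.inv_left).mul_left hg, fun x y hxy => ?_⟩
  have h1 := hφ x
  rw [he, MulAut.mul_apply, MulAut.conj_apply] at h1
  have h2 : (⟨g * x * g⁻¹, conj_mem_closure_perp hD hg x.2⟩ : Subgroup.closure (perp D a)) = h * y * h⁻¹ := by
    refine Subtype.ext ?_
    show g * x * g⁻¹ = (h : G) * y * (h : G)⁻¹
    rw [← hxy]
    group
  rw [h2, map_mul, map_mul, map_inv] at h1
  exact mul_left_cancel (mul_right_cancel h1)

include hD hprim ht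

/-- Elements inducing inner diagonal automorphisms lie in the local group. -/
theorem mem_of_linear {a g : G} (ha : a ∈ D) (hg : Commute g a) {F : Type} [Field F] [Fintype F]
    (hF : Fintype.card F = 4)
    (e : (Subgroup.closure (perp D a) ⧸ Subgroup.center (Subgroup.closure (perp D a))) ≃* Cfsg.PSU 6 F 2)
    {φ : MulAut (Cfsg.PSU 6 F 2)}
    (hφ : ∀ x : Subgroup.closure (perp D a),
      φ (quotMap e x) = quotMap e ⟨g * x * g⁻¹, conj_mem_closure_perp hD hg x.2⟩)
    {g₀ : Cfsg.GU 6 F 2} (he : φ = PSUAut.semiAut g₀ 1) : g ∈ Subgroup.closure (perp D a) := by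
  classical
  have hG := good_of_primitive hD hprim ht.1
  let H : Subgroup G := Subgroup.closure (perp D a)
  obtain ⟨hT, hconj⟩ := image_tt hG ha (H := H) rfl e
  have hneH := (memberSet_nonempty hD hprim ht ha).image (quotMap e)
  obtain ⟨μ, D₁, s, hμ, hD₁, hs⟩ := exists_standard hF g₀ 1
  obtain ⟨h, hh⟩ := (e.surjective.comp (QuotientGroup.mk'_surjective _)) (PSUAut.cl s)
  obtain ⟨hg', hψ⟩ := aut_inv_mul hD hg e hφ (h := h) (ψ := PSUAut.semiAut D₁ 1)
    (by rw [show quotMap e h = PSUAut.cl s from hh, he, hs])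
  obtain ⟨g', hg'def⟩ : ∃ g', g' = (h : G)⁻¹ * g := ⟨_, rfl⟩
  rw [← hg'def] at hg' hψ
  suffices hmem : g' ∈ H by
    have := mul_mem h.2 hmem
    rwa [hg'def, mul_inv_cancel_left] at this
  -- conjugation of lifts
  have hmove : ∀ (x y : H) {r r' : Fin 6 → F} (hr : Cfsg.hermForm 6 F 2 r r = 0)
      (hr' : Cfsg.hermForm 6 F 2 r' r' = 0), x ∈ memberSet D a H → y ∈ memberSet D a H →
      quotMap e x = pv hF r hr → quotMap e y = pv hF r' hr' →
      pv hF (move D₁ 1 r) (herm_move_zero D₁ 1 hr) = pv hF r' hr' → g' * x * g'⁻¹ = (y : G) := by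
    intro x y r r' hr hr' hx hy ex ey k
    have hc : (⟨g' * x * g'⁻¹, conj_mem_closure_perp hD hg' x.2⟩ : H) ∈ memberSet D a H :=
      (conj_mem_perp_iff hD hg').2 hx
    refine congrArg Subtype.val (quotMap_inj hG ha (H := H) rfl e hc hy ?_)
    rw [ey, ← hψ x _ rfl, ex, semiAut_pv, k]
  rcases eq_or_ne μ 1 with rfl | hμ1
  · have hD1 : D₁ = 1 := by
      refine Subtype.ext (Units.ext ?_)
      rw [hD₁]
      have : (![1, 1, 1, 1, 1, 1] : Fin 6 → F) = fun _ => 1 := by funext i; fin_cases i <;> rfl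
      rw [this, Matrix.diagonal_one]
      rfl
    have hall : ∀ f ∈ perp D a, Commute g' f := by
      intro f hf
      refine mul_inv_eq_iff_eq_mul.1 ?_
      let f' : H := ⟨f, Subgroup.subset_closure hf⟩
      have hc : (⟨g' * f * g'⁻¹, conj_mem_closure_perp hD hg' f'.2⟩ : H) ∈ memberSet D a H :=
        (conj_mem_perp_iff hD hg').2 hf
      refine congrArg Subtype.val (quotMap_inj hG ha (H := H) rfl e hc (y := f') hf ?_)
      rw [← hψ f' _ rfl, hD1, PSUAut.semiAut_one, MulAut.one_apply]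
    rcases eq_of_commute_perp hD hprim ht ha hg' hall with k | k <;> rw [k]
    · exact one_mem _
    · exact mem_closure_perp hD hprim ht ha
  -- an outer diagonal element
  exfalso
  obtain ⟨θ, hθ, hθn, hθ0, hθ1, hall'⟩ := exists_theta hF
  obtain ⟨hμt, hμn, hμs⟩ : μ + (conj hF).σ μ = 1 ∧ μ * (conj hF).σ μ = 1 ∧ (conj hF).σ μ ≠ 1 := by
    refine ⟨?_, norm_eq_one hF hμ, fun k => hμ1 (by rw [← (conj hF).invol μ, k, map_one])⟩
    rcases hall' μ with k | k | k | k
    · exact absurd k hμ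
    · exact absurd k hμ1
    · rw [k, hθ]
    · rw [k, (conj hF).invol, add_comm, hθ]
  have hlift : ∀ (ν : F) (i : Fin 6), ∃ x ∈ memberSet D a H, quotMap e x = ovalPV hF μ ν i := fun ν i =>
    pv_mem hF (by norm_num) hT hconj hneH (herm_plane hF ..) (plane_ne_zero (by
      by_contra h
      push Not at h
      exact oval_ne_zero hF μ ν i (Prod.ext h.1 (Prod.ext h.2.1 h.2.2))))
  choose U hU hUe using hlift
  have hUc : ∀ ν ν' i j, Commute (U ν i : G) (U ν' j) := fun ν ν' i j =>
    commute_of_quotMap hG ha (H := H) rfl e (hU ν i) (hU ν' j) (by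
      rw [hUe, hUe]; exact ovalPV_commute hF μ ν μ ν' i j)
  have hUinj : ∀ ν i j, (U ν i : G) = U ν j → i = j := fun ν i j k =>
    ovalPV_injective hF hμ hμ1 hμt (by rw [← hUe ν i, ← hUe ν j, show U ν i = U ν j from Subtype.ext k])
  have hconjU : ∀ ν i, g' * (U ν i : G) * g'⁻¹ = U (μ * ν) i := by
    intro ν i
    refine hmove _ _ (herm_plane hF ..) (herm_plane hF ..) (hU ν i) (hU (μ * ν) i) (hUe ν i) (hUe (μ * ν) i) ?_
    have hmv := move_plane hD₁ (1 : F ≃+* F) (oval hF μ ν i).1 (oval hF μ ν i).2.1 (oval hF μ ν i).2.2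
    simp only [RingAut.one_apply] at hmv
    rw [pv_congr hF _ (herm_plane hF ..) hmv]
    by_cases h2 : i = 2
    · subst h2
      have e2 : plane (0 : F) 0 (μ * 1) = μ • plane (0 : F) 0 1 := by
        funext j; fin_cases j <;> simp [plane]
      have hsm : Cfsg.hermForm 6 F 2 (μ • plane (0 : F) 0 1) (μ • plane (0 : F) 0 1) = 0 := e2 ▸ herm_plane hF ..
      refine (pv_congr hF _ hsm ?_).trans ((pv_smul hF hμ (herm_plane hF ..) hsm).trans (pv_congr hF _ _ ?_))
      · simpa [oval] using e2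
      · simp [oval]
    · refine pv_congr hF _ _ ?_
      fin_cases i <;> first | exact absurd rfl h2 | simp [oval, mul_assoc]
  let S : F → List G := fun ν => List.ofFn fun i => (U ν i : G)
  have hS1 : ∀ ν, ν ≠ 0 → (S ν).prod = 1 ∨ (S ν).prod = a := by
    intro ν hν
    have h1 : quotMap e (List.ofFn (U ν)).prod = 1 := by
      rw [map_list_prod, List.map_ofFn, show (quotMap e ∘ U ν) = ovalPV hF μ ν from funext (hUe ν)]
      exact ovalPV_prod hF hμt hμn hν
    have hz := (quotMap_eq_one e).1 h1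
    have hp : ((List.ofFn (U ν)).prod : G) = (S ν).prod := by
      rw [show ((List.ofFn (U ν)).prod : H).1 = ((List.ofFn (U ν)).map H.subtype).prod from
        map_list_prod H.subtype (List.ofFn (U ν)), List.map_ofFn]
      rfl
    rw [← hp]
    exact center_le hD hprim ht ha (List.ofFn (U ν)).prod.2 (fun f hf =>
      (congrArg Subtype.val (Subgroup.mem_center_iff.1 hz ⟨f, Subgroup.subset_closure hf⟩)).symm)
  have hSstep : ∀ ν, ν ≠ 0 → (S (μ * ν)).prod = (S ν).prod := by
    intro ν hν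
    have h1 : (S (μ * ν)).prod = g' * (S ν).prod * g'⁻¹ := by
      rw [← MulAut.conj_apply, map_list_prod, List.map_ofFn]
      congr 1
      exact congrArg List.ofFn (funext fun i => (hconjU ν i).symm)
    rw [h1]
    rcases hS1 ν hν with k | k <;> rw [k]
    · group
    · rw [hg'.eq, mul_inv_cancel_right]
  have hSμ : (S μ).prod = (S 1).prod := by simpa using hSstep 1 one_ne_zero
  have hSμμ : (S ((conj hF).σ μ)).prod = (S 1).prod := by
    rw [UnitarySemilinear.conj_eq_sq hF, hSstep μ hμ, hSμ]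
  -- three triples with one product
  let T : F → List G := fun ν => [(U ν 3 : G), (U ν 4 : G), (U ν 5 : G)]
  have hfix : ∀ ν, (U ν 0 : G) = U 1 0 ∧ (U ν 1 : G) = U 1 1 ∧ (U ν 2 : G) = U 1 2 := by
    intro ν
    obtain ⟨k0, k1, k2⟩ := ovalPV_fixed hF μ ν 1
    exact ⟨congrArg Subtype.val (quotMap_inj hG ha (H := H) rfl e (hU _ _) (hU _ _) (by rw [hUe, hUe, k0])),
      congrArg Subtype.val (quotMap_inj hG ha (H := H) rfl e (hU _ _) (hU _ _) (by rw [hUe, hUe, k1])),
      congrArg Subtype.val (quotMap_inj hG ha (H := H) rfl e (hU _ _) (hU _ _) (by rw [hUe, hUe, k2]))⟩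
  have hTn : ∀ ν, (T ν).Nodup := by
    intro ν
    simp only [T, List.nodup_cons, List.mem_cons, List.not_mem_nil, or_false, not_or, List.nodup_nil,
      not_false_eq_true, and_true]
    exact ⟨⟨fun h => absurd (hUinj ν _ _ h) (by decide), fun h => absurd (hUinj ν _ _ h) (by decide)⟩,
      fun h => absurd (hUinj ν _ _ h) (by decide)⟩
  have hTD : ∀ ν, ∀ x ∈ T ν, x ∈ D := fun ν x hx => by
    simp only [T, List.mem_cons, List.not_mem_nil, or_false] at hx
    rcases hx with rfl | rfl | rfl <;> exact (hU _ _).1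
  have hTc : ∀ ν, ∀ x ∈ T ν, ∀ y ∈ T ν, Commute x y := fun ν x hx y hy => by
    simp only [T, List.mem_cons, List.not_mem_nil, or_false] at hx hy
    rcases hx with rfl | rfl | rfl <;> rcases hy with rfl | rfl | rfl <;> exact hUc _ _ _ _
  have hSeq : ∀ ν, (S ν).prod = (U 1 0 : G) * ((U 1 1 : G) * (U 1 2 : G)) * (T ν).prod := by
    intro ν
    obtain ⟨k0, k1, k2⟩ := hfix ν
    simp only [S, T, List.ofFn_succ, List.ofFn_zero, List.prod_cons, List.prod_nil, mul_one]
    rw [← k0, ← k1, ← k2]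
    simp only [mul_assoc]
    rfl
  have hTp : ∀ ν, (S ν).prod = (S 1).prod → (T ν).prod = (T 1).prod := fun ν k => by
    rw [hSeq, hSeq] at k
    exact mul_left_cancel k
  obtain ⟨l₂, -, -, hall⟩ := exists_two_factorizations hD hprim ht (hTn 1) rfl (hTD 1) (hTc 1)
  have hsep : ∀ ν ν', (U ν 3 : G) ∈ T ν' → ν = ν' := by
    intro ν ν' hmem
    have hj : ∃ j : Fin 6, (j = 3 ∨ j = 4 ∨ j = 5) ∧ ovalPV hF μ ν 3 = ovalPV hF μ ν' j := by
      simp only [T, List.mem_cons, List.not_mem_nil, or_false] at hmem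
      rcases hmem with k | k | k
      · exact ⟨3, Or.inl rfl, by rw [← hUe, ← hUe, Subtype.ext k]⟩
      · exact ⟨4, Or.inr (Or.inl rfl), by rw [← hUe, ← hUe, Subtype.ext k]⟩
      · exact ⟨5, Or.inr (Or.inr rfl), by rw [← hUe, ← hUe, Subtype.ext k]⟩
    obtain ⟨j, hj, hje⟩ := hj
    obtain ⟨k, e1, e2, e3⟩ := ovalPV_eq hF (oval_ne_zero hF μ ν 3) hje
    rcases hj with rfl | rfl | rfl <;> simp [oval] at e1 e2 e3 <;> subst e1 <;> simp at e2 e3
    · exact e3
    · exact absurd e2.symm hμ1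
    · exact absurd e2.symm hμs
  have key : ∀ ν, ν ≠ 1 → (S ν).prod = (S 1).prod → ∀ x, x ∈ T ν ↔ x ∈ l₂ := by
    intro ν hν hp
    rcases hall (T ν) (hTn ν) rfl (hTD ν) (hTc ν) (hTp ν hp) with k | k
    · exact absurd (hsep ν 1 ((k _).1 (by simp [T]))) hν
    · exact k
  have := hsep μ ((conj hF).σ μ)
    ((key _ hμs hSμμ _).2 ((key μ hμ1 hSμ _).1 (by simp [T])))
  rw [← this, add_self hF] at hμt
  exact zero_ne_one hμt

/-- An element outside the local group induces, up to an element of it, a standard field automorphism. -/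
theorem exists_field {a g : G} (ha : a ∈ D) (hg : Commute g a) (hgH : g ∉ Subgroup.closure (perp D a))
    {F : Type} [Field F] [Fintype F] (hF : Fintype.card F = 4)
    (e : (Subgroup.closure (perp D a) ⧸ Subgroup.center (Subgroup.closure (perp D a))) ≃* Cfsg.PSU 6 F 2) :
    ∃ g' : G, ∃ hg' : Commute g' a, g' ∉ Subgroup.closure (perp D a) ∧
      ∃ (μ : F) (D₁ : Cfsg.GU 6 F 2), μ ≠ 0 ∧
        (Units.val D₁.1 : Matrix _ _ F) = Matrix.diagonal ![1, 1, 1, 1, μ, μ] ∧
        ∀ x : Subgroup.closure (perp D a), PSUAut.semiAut D₁ (frob hF) (quotMap e x) =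
          quotMap e ⟨g' * x * g'⁻¹, conj_mem_closure_perp hD hg' x.2⟩ := by
  obtain ⟨φ, hφ⟩ := exists_aut hD hg e
  obtain ⟨g₀, σ, he⟩ := CfsgLib.ClassicalAut.Unitary.exists_semiAut_psu (n := 6) (q := 2) (by rw [hF]; norm_num)
    (by norm_num) (by norm_num) φ
  rcases ringEquiv_cases hF σ with rfl | rfl
  · exact absurd (mem_of_linear hD hprim ht ha hg hF e hφ he) hgH
  obtain ⟨μ, D₁, s, hμ, hD₁, hs⟩ := exists_standard hF g₀ (frob hF)
  obtain ⟨h, hh⟩ := (e.surjective.comp (QuotientGroup.mk'_surjective _)) (PSUAut.cl s)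
  obtain ⟨hg', hψ⟩ := aut_inv_mul hD hg e hφ (h := h) (ψ := PSUAut.semiAut D₁ (frob hF))
    (by rw [show quotMap e h = PSUAut.cl s from hh, he, hs])
  refine ⟨_, hg', fun k => hgH ?_, μ, D₁, hμ, hD₁, fun x => hψ x _ rfl⟩
  simpa using mul_mem h.2 k

/-- The local group has index at most two in the centralizer. -/
theorem mul_mem_of_notMem {a g k : G} (ha : a ∈ D) (hg : Commute g a) (hk : Commute k a)
    (hgH : g ∉ Subgroup.closure (perp D a)) (hkH : k ∉ Subgroup.closure (perp D a)) :
    g⁻¹ * k ∈ Subgroup.closure (perp D a) := by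
  obtain ⟨F, _, _, hF, ⟨e⟩⟩ := exists_equiv_of_type22 hD hprim ht ha
  obtain ⟨φ, hφ⟩ := exists_aut hD hg e
  obtain ⟨χ, hχ⟩ := exists_aut hD hk e
  obtain ⟨ψ, hψ⟩ := exists_aut hD (hg.inv_left.mul_left hk) e
  obtain ⟨g₀, σ, he⟩ := CfsgLib.ClassicalAut.Unitary.exists_semiAut_psu (n := 6) (q := 2) (by rw [hF]; norm_num)
    (by norm_num) (by norm_num) φ
  obtain ⟨k₀, τ, he'⟩ := CfsgLib.ClassicalAut.Unitary.exists_semiAut_psu (n := 6) (q := 2) (by rw [hF]; norm_num)
    (by norm_num) (by norm_num) χ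
  rcases ringEquiv_cases hF σ with rfl | rfl
  · exact absurd (mem_of_linear hD hprim ht ha hg hF e hφ he) hgH
  rcases ringEquiv_cases hF τ with rfl | rfl
  · exact absurd (mem_of_linear hD hprim ht ha hk hF e hχ he') hkH
  have h1 : φ * ψ = χ := aut_eq e fun x => by
    rw [MulAut.mul_apply, hψ, hφ, hχ]
    exact congrArg (quotMap e) (Subtype.ext (show g * (g⁻¹ * k * x * (g⁻¹ * k)⁻¹) * g⁻¹ = k * x * k⁻¹ by group))
  refine mem_of_linear hD hprim ht ha (hg.inv_left.mul_left hk) hF e hψ
    (g₀ := PSUAut.gmapU (frob hF)⁻¹ g₀⁻¹ * PSUAut.gmapU (frob hF)⁻¹ k₀) ?_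
  rw [eq_inv_mul_of_mul_eq h1, he, he', PSUAut.semiAut_inv, PSUAut.semiAut_mul, inv_mul_cancel]

/-- An element inducing a field automorphism does so at the member it fixes in a suitable way. -/
theorem notMem_of_field {a g : G} (ha : a ∈ D) (hg : Commute g a) {F : Type} [Field F] [Fintype F]
    (hF : Fintype.card F = 4)
    (e : (Subgroup.closure (perp D a) ⧸ Subgroup.center (Subgroup.closure (perp D a))) ≃* Cfsg.PSU 6 F 2)
    {μ : F} {D₁ : Cfsg.GU 6 F 2}
    (hD₁ : (Units.val D₁.1 : Matrix _ _ F) = Matrix.diagonal ![1, 1, 1, 1, μ, μ])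
    (hψ : ∀ x : Subgroup.closure (perp D a), PSUAut.semiAut D₁ (frob hF) (quotMap e x) =
      quotMap e ⟨g * x * g⁻¹, conj_mem_closure_perp hD hg x.2⟩) :
    ∃ w : Subgroup.closure (perp D a), (w : G) ∈ perp D a ∧
      quotMap e w = pv hF (plane 1 0 0) (herm_plane hF ..) ∧
      Commute g w ∧ g ∉ Subgroup.closure (perp D (w : G)) := by
  have hG := good_of_primitive hD hprim ht.1
  let H : Subgroup G := Subgroup.closure (perp D a)
  obtain ⟨hT, hconj⟩ := image_tt hG ha (H := H) rfl e
  have hneH := (memberSet_nonempty hD hprim ht ha).image (quotMap e)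
  obtain ⟨θ, hθ, hθn, hθ0, hθ1, -⟩ := exists_theta hF
  have hp : ∀ p q : F, (p ≠ 0 ∨ q ≠ 0) → ∃ x ∈ memberSet D a H,
      quotMap e x = pv hF (plane p q 0) (herm_plane hF ..) := fun p q h =>
    pv_mem hF (by norm_num) hT hconj hneH (herm_plane hF ..)
      (plane_ne_zero (h.elim Or.inl fun k => Or.inr (Or.inl k)))
  obtain ⟨W, hW, hWe⟩ := hp 1 0 (Or.inl one_ne_zero)
  obtain ⟨X, hX, hXe⟩ := hp 0 1 (Or.inr one_ne_zero)
  obtain ⟨Z, hZ, hZe⟩ := hp 1 1 (Or.inl one_ne_zero)
  obtain ⟨Y, hY, hYe⟩ := hp θ 1 (Or.inl hθ0)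
  have hcomm : ∀ x y : H, x ∈ memberSet D a H → y ∈ memberSet D a H → ∀ {r r' : Fin 6 → F}
      (hr : Cfsg.hermForm 6 F 2 r r = 0) (hr' : Cfsg.hermForm 6 F 2 r' r' = 0),
      quotMap e x = pv hF r hr → quotMap e y = pv hF r' hr' → Cfsg.hermForm 6 F 2 r r' = 0 →
      Commute (x : G) y := by
    intro x y hx hy r r' hr hr' ex ey k
    refine commute_of_quotMap hG ha (H := H) rfl e hx hy ?_
    rw [ex, ey]
    exact (tv_commute hF hr hr' k).map (QuotientGroup.mk' _)
  have hmove : ∀ (x y : H) {r r' : Fin 6 → F} (hr : Cfsg.hermForm 6 F 2 r r = 0)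
      (hr' : Cfsg.hermForm 6 F 2 r' r' = 0), x ∈ memberSet D a H → y ∈ memberSet D a H →
      quotMap e x = pv hF r hr → quotMap e y = pv hF r' hr' →
      move D₁ (frob hF) r = r' → Commute g (x : G) → (x : G) = y := by
    intro x y r r' hr hr' hx hy ex ey k hc
    refine congrArg Subtype.val (quotMap_inj hG ha (H := H) rfl e hx hy ?_)
    rw [ey, show x = ⟨g * x * g⁻¹, conj_mem_closure_perp hD hg x.2⟩ from
      Subtype.ext (show (x : G) = g * x * g⁻¹ by rw [hc.eq, mul_inv_cancel_right]), ← hψ x, ex, semiAut_pv]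
    exact pv_congr hF _ _ k
  have hfix : ∀ (x : H) {p q : F}, x ∈ memberSet D a H → quotMap e x = pv hF (plane p q 0) (herm_plane hF ..) →
      frob hF p = p → frob hF q = q → Commute g (x : G) := by
    intro x p q hx ex h1 h2
    have hc : (⟨g * x * g⁻¹, conj_mem_closure_perp hD hg x.2⟩ : H) ∈ memberSet D a H :=
      (conj_mem_perp_iff hD hg).2 hx
    refine mul_inv_eq_iff_eq_mul.1 (congrArg Subtype.val (quotMap_inj hG ha (H := H) rfl e hc hx ?_))
    rw [← hψ x, ex, semiAut_pv]
    exact pv_congr hF _ _ (by rw [move_plane hD₁, h1, h2, map_zero, mul_zero])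
  have hgW : Commute g (W : G) := hfix W hW hWe (map_one _) (map_zero _)
  have hgX : Commute g (X : G) := hfix X hX hXe (map_zero _) (map_one _)
  have hgZ : Commute g (Z : G) := hfix Z hZ hZe (map_one _) (map_one _)
  have hgY : ¬ Commute g (Y : G) := by
    intro k
    obtain ⟨Y', hY', hY'e⟩ := hp (frob hF θ) 1 (Or.inr one_ne_zero)
    have h1 := hmove Y Y' (herm_plane hF ..) (herm_plane hF ..) hY hY' hYe hY'e
      (by rw [move_plane hD₁, map_one, map_zero, mul_zero]) k
    rw [show Y = Y' from Subtype.ext h1, hY'e] at hYe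
    obtain ⟨c, hc⟩ := pv_eq_span hF (by norm_num) (herm_plane hF ..) (herm_plane hF ..)
      (plane_ne_zero (Or.inr (Or.inl one_ne_zero))) hYe
    have h2 : (1 : F) = c * 1 := by simpa [plane] using congrFun hc 2
    have h0 : frob hF θ = c * θ := by simpa [plane] using congrFun hc 0
    rw [show c = 1 by linear_combination -h2, one_mul, frob_apply] at h0
    rw [h0, add_self hF] at hθ
    exact zero_ne_one hθ
  refine ⟨W, hW, hWe, hgW, fun hgw => hgY ?_⟩
  -- the point of view of `W`
  obtain ⟨F', _, _, hF', ⟨e'⟩⟩ := exists_equiv_of_type22 hD hprim ht hW.1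
  let K : Subgroup G := Subgroup.closure (perp D (W : G))
  obtain ⟨hT', hconj'⟩ := image_tt hG hW.1 (H := K) rfl e'
  have hsep : ∀ (x : H) {p : F}, x ∈ memberSet D a H → quotMap e x = pv hF (plane p 1 0) (herm_plane hF ..) →
      (x : G) ≠ W := by
    intro x p hx ex k
    rw [show x = W from Subtype.ext k, hWe] at ex
    obtain ⟨c, hc⟩ := pv_eq_span hF (by norm_num) (herm_plane hF ..) (herm_plane hF ..)
      (plane_ne_zero (Or.inl one_ne_zero)) ex
    have h2 : (0 : F) = c := by simpa [plane] using congrFun hc 2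
    have h0 : (1 : F) = c * p := by simpa [plane] using congrFun hc 0
    rw [← h2, zero_mul] at h0
    exact one_ne_zero h0
  have hperpW : ∀ (x : H) {p : F}, x ∈ memberSet D a H → quotMap e x = pv hF (plane p 1 0) (herm_plane hF ..) →
      (x : G) ∈ perp D (W : G) := fun x p hx ex =>
    ⟨hx.1, hsep x hx ex, hcomm W x hW hx (herm_plane hF ..) (herm_plane hF ..) hWe ex (herm_plane hF ..)⟩
  have haW : a ∈ perp D (W : G) := ⟨ha, fun k => hW.2.1 k.symm, hW.2.2.symm⟩
  have hXW : (X : G) ∈ perp D (W : G) := hperpW X hX hXe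
  have hZW : (Z : G) ∈ perp D (W : G) := hperpW Z hZ hZe
  have hYW : (Y : G) ∈ perp D (W : G) := hperpW Y hY hYe
  obtain ⟨va, hva, hva0, hae⟩ := exists_pv_of_mem hF' (by norm_num) hT' hconj'
    ⟨⟨a, Subgroup.subset_closure haW⟩, haW, rfl⟩
  obtain ⟨vx, hvx, hvx0, hxe⟩ := exists_pv_of_mem hF' (by norm_num) hT' hconj'
    ⟨⟨X, Subgroup.subset_closure hXW⟩, hXW, rfl⟩
  have hdiff : ∀ (x : H) (f : G) (hxW : (x : G) ∈ perp D (W : G)) (hfW : f ∈ perp D (W : G)),
      quotMap e' ⟨x, Subgroup.subset_closure hxW⟩ = quotMap e' ⟨f, Subgroup.subset_closure hfW⟩ → (x : G) = f :=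
    fun x f hxW hfW k => congrArg Subtype.val (quotMap_inj hG hW.1 (H := K) rfl e'
      (x := ⟨x, Subgroup.subset_closure hxW⟩) (y := ⟨f, Subgroup.subset_closure hfW⟩) hxW hfW k)
  have hvax : Cfsg.hermForm 6 F' 2 va vx = 0 := by
    refine herm_eq_zero_of_commute hF' (by norm_num) hva hvx ?_
    rw [← hae, ← hxe]
    exact (show Commute (⟨a, Subgroup.subset_closure haW⟩ : K) ⟨X, Subgroup.subset_closure hXW⟩ from
      Subtype.ext hX.2.2.eq).map _
  have hind : ∀ c d : F', c • va + d • vx = 0 → c = 0 ∧ d = 0 := by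
    intro c d h
    by_cases hd : d = 0
    · rw [hd, zero_smul, add_zero, smul_eq_zero] at h
      exact ⟨h.resolve_right hva0, hd⟩
    · exfalso
      have h2 : vx = (d⁻¹ * -c) • va := by
        rw [mul_smul, neg_smul, ← eq_neg_of_add_eq_zero_right h, inv_smul_smul₀ hd]
      have hne : d⁻¹ * -c ≠ 0 := fun k => hvx0 (by rw [h2, k, zero_smul])
      refine hX.2.1 (hdiff X a hXW haW ?_)
      rw [hxe, hae]
      exact (pv_congr hF' hvx (by rw [← h2]; exact hvx) h2).trans (pv_smul hF' hne hva _)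
  -- the points of the line
  have hline : ∀ (x : H) {p : F}, x ∈ memberSet D a H → quotMap e x = pv hF (plane p 1 0) (herm_plane hF ..) →
      ∀ hxW : (x : G) ∈ perp D (W : G), ∃ (u : Fin 6 → F') (hu : Cfsg.hermForm 6 F' 2 u u = 0), u ≠ 0 ∧
        quotMap e' ⟨x, Subgroup.subset_closure hxW⟩ = pv hF' u hu ∧ ∃ c d : F', u = c • va + d • vx := by
    intro x p hx ex hxW
    obtain ⟨u, hu, hu0, hue⟩ := exists_pv_of_mem hF' (by norm_num) hT' hconj'
      ⟨⟨x, Subgroup.subset_closure hxW⟩, hxW, rfl⟩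
    refine ⟨u, hu, hu0, hue, mem_span_of_perp hF' (by norm_num) hva hvx hvax hu fun k hk hka hkx => ?_⟩
    by_cases hk0 : k = 0
    · subst hk0; exact (conj hF').zero_left _
    obtain ⟨f, hf, hfk⟩ := pv_mem hF' (by norm_num) hT' hconj'
      ⟨_, ⟨a, Subgroup.subset_closure haW⟩, haW, rfl⟩ hk hk0
    refine herm_eq_zero_of_commute hF' (by norm_num) hk hu ?_
    rw [← hfk, ← hue]
    refine (show Commute f ⟨x, Subgroup.subset_closure hxW⟩ from Subtype.ext (?_ : Commute (f : G) x).eq).map _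
    have hfa : Commute (f : G) a := commute_of_quotMap hG hW.1 (H := K) rfl e' hf
      (y := ⟨a, Subgroup.subset_closure haW⟩) haW (by
        rw [hfk, hae]; exact (tv_commute hF' hk hva hka).map (QuotientGroup.mk' _))
    by_cases hne : (f : G) = a
    · rw [hne]; exact hx.2.2
    have hfX : Commute (f : G) X := commute_of_quotMap hG hW.1 (H := K) rfl e' hf
      (y := ⟨X, Subgroup.subset_closure hXW⟩) hXW (by
        rw [hfk, hxe]; exact (tv_commute hF' hk hvx hkx).map (QuotientGroup.mk' _))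
    let f' : H := ⟨f, Subgroup.subset_closure ⟨hf.1, hne, hfa.symm⟩⟩
    have hf' : f' ∈ memberSet D a H := ⟨hf.1, hne, hfa.symm⟩
    obtain ⟨r, hr, -, hre⟩ := exists_pv_of_mem hF (by norm_num) hT hconj ⟨f', hf', rfl⟩
    have hr1 : Cfsg.hermForm 6 F 2 r (plane 1 0 0) = 0 := herm_eq_zero_of_commute hF (by norm_num) hr
      (herm_plane hF ..) (by
        rw [← hre, ← hWe]
        exact (show Commute f' W from Subtype.ext hf.2.2.symm.eq).map _)
    have hr2 : Cfsg.hermForm 6 F 2 r (plane 0 1 0) = 0 := herm_eq_zero_of_commute hF (by norm_num) hr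
      (herm_plane hF ..) (by
        rw [← hre, ← hXe]
        exact (show Commute f' X from Subtype.ext hfX.eq).map _)
    refine hcomm f' x hf' hx hr (herm_plane hF ..) hre ex ?_
    have he' : plane p (1 : F) 0 = p • plane 1 0 0 + plane 0 1 0 := by
      funext i; fin_cases i <;> simp [plane]
    rw [he', (conj hF).add_right, (conj hF).smul_right, hr1, hr2, mul_zero, add_zero]
  obtain ⟨vz, hvz, hvz0, hze, cz, dz, hzspan⟩ := hline Z hZ hZe hZW
  obtain ⟨vy, hvy, hvy0, hye, cy, dy, hyspan⟩ := hline Y hY hYe hYW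
  -- a lift of `g`
  obtain ⟨s, hs⟩ := QuotientGroup.mk'_surjective _ (quotMap e' ⟨g, hgw⟩)
  have hact : ∀ (f : G) (hfW : f ∈ perp D (W : G)) {u : Fin 6 → F'} (hu : Cfsg.hermForm 6 F' 2 u u = 0),
      quotMap e' ⟨f, Subgroup.subset_closure hfW⟩ = pv hF' u hu →
      quotMap e' (⟨g, hgw⟩ * ⟨f, Subgroup.subset_closure hfW⟩ * (⟨g, hgw⟩)⁻¹) =
        pv hF' (act s u) (by rw [act_herm, hu]) := by
    intro f hfW u hu ef
    rw [map_mul, map_mul, map_inv, ef, ← hs, pv, pv, QuotientGroup.mk'_apply, ← QuotientGroup.mk_mul,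
      ← QuotientGroup.mk_inv, ← QuotientGroup.mk_mul, conj_tv hF' s hu]
  have heig : ∀ (f : G) (hfW : f ∈ perp D (W : G)) {u : Fin 6 → F'} (hu : Cfsg.hermForm 6 F' 2 u u = 0), u ≠ 0 →
      quotMap e' ⟨f, Subgroup.subset_closure hfW⟩ = pv hF' u hu → Commute g f → ∃ c : F', act s u = c • u := by
    intro f hfW u hu hu0 ef hc
    have h1 := hact f hfW hu ef
    rw [show (⟨g, hgw⟩ * ⟨f, Subgroup.subset_closure hfW⟩ * (⟨g, hgw⟩)⁻¹ : K) =
      ⟨f, Subgroup.subset_closure hfW⟩ from Subtype.ext (show g * f * g⁻¹ = f by rw [hc.eq, mul_inv_cancel_right]),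
      ef] at h1
    obtain ⟨k, hk⟩ := pv_eq_span hF' (by norm_num) hu _ hu0 h1
    have hk0 : k ≠ 0 := fun e => hu0 (by rw [hk, e, zero_smul])
    exact ⟨k⁻¹, ((inv_smul_eq_iff₀ hk0).2 hk).symm⟩
  obtain ⟨α, hα⟩ := heig a haW hva hva0 hae hg
  obtain ⟨β, hβ⟩ := heig X hXW hvx hvx0 hxe hgX
  obtain ⟨γ, hγ⟩ := heig Z hZW hvz hvz0 hze hgZ
  have hcz : cz ≠ 0 := by
    rintro rfl
    rw [zero_smul, zero_add] at hzspan
    have hdz : dz ≠ 0 := fun k => hvz0 (by rw [hzspan, k, zero_smul])
    have hZX : (Z : G) = X := hdiff Z X hZW hXW (by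
      rw [hze, hxe]
      exact (pv_congr hF' hvz (by rw [← hzspan]; exact hvz) hzspan).trans (pv_smul hF' hdz hvx _))
    rw [show Z = X from Subtype.ext hZX, hXe] at hZe
    obtain ⟨c, hc⟩ := pv_eq_span hF (by norm_num) (herm_plane hF ..) (herm_plane hF ..)
      (plane_ne_zero (Or.inr (Or.inl one_ne_zero))) hZe
    have h0 : c = 0 := by simpa [plane] using (congrFun hc 0).symm
    have h2 : (1 : F) = c := by simpa [plane] using congrFun hc 2
    exact one_ne_zero (h2.trans h0)
  have hdz : dz ≠ 0 := by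
    rintro rfl
    rw [zero_smul, add_zero] at hzspan
    exact hZ.2.1 (hdiff Z a hZW haW (by
      rw [hze, hae]
      exact (pv_congr hF' hvz (by rw [← hzspan]; exact hvz) hzspan).trans (pv_smul hF' hcz hva _)))
  have hrel : (cz * α - γ * cz) • va + (dz * β - γ * dz) • vx = 0 := by
    have h1 := hγ
    rw [hzspan, act_add, act_smul, act_smul, hα, hβ, smul_add, smul_smul, smul_smul, smul_smul, smul_smul] at h1
    rw [sub_smul, sub_smul, sub_add_sub_comm, h1, sub_self]
  obtain ⟨r1, r2⟩ := hind _ _ hrel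
  have hαγ : α = γ := mul_left_cancel₀ hcz (by linear_combination r1)
  have hβγ : β = γ := mul_left_cancel₀ hdz (by linear_combination r2)
  have hY1 : act s vy = γ • vy := by
    rw [hyspan, act_add, act_smul, act_smul, hα, hβ, hαγ, hβγ, smul_comm cy, smul_comm dy, smul_add]
  have hγ0 : γ ≠ 0 := by
    intro k
    rw [← hαγ] at k
    have hinv := congrArg (act s⁻¹) hα
    rw [← act_mul, inv_mul_cancel, act_one, act_smul, k, zero_smul] at hinv
    exact hva0 hinv
  refine mul_inv_eq_iff_eq_mul.1 ?_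
  refine congrArg Subtype.val (quotMap_inj hG hW.1 (H := K) rfl e'
    (x := ⟨g, hgw⟩ * ⟨Y, Subgroup.subset_closure hYW⟩ * (⟨g, hgw⟩)⁻¹)
    (y := ⟨Y, Subgroup.subset_closure hYW⟩) ((conj_mem_perp_iff hD hgW).2 hYW) hYW ?_)
  rw [hact Y hYW hvy hye, hye]
  exact (pv_congr hF' _ (by rw [← hY1, act_herm, hvy]) hY1).trans (pv_smul hF' hγ0 hvy _)

omit [Finite G] hD hprim ht in
/-- Conjugation as a permutation. -/
def conjP (g : G) : Equiv.Perm G := (MulAut.conj g).toEquiv

omit [Finite G] hD hprim ht in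
theorem conjP_apply (g x : G) : conjP g x = g * x * g⁻¹ := rfl

omit [Finite G] hD hprim ht in
theorem conjP_mul (g k : G) : conjP (g * k) = conjP g * conjP k := Equiv.ext fun x => by
  simp [conjP_apply, mul_assoc]

/-- The sign of conjugation on an invariant set, as a homomorphism on a subgroup preserving it. -/
noncomputable def sgnHom [Fintype G] [DecidableEq G] (K : Subgroup G) (S : Set G)
    (hK : ∀ g ∈ K, ∀ x, g * x * g⁻¹ ∈ S ↔ x ∈ S) : K →* ℤˣ where
  toFun g := Equiv.Perm.sign (part (conjP (g : G)) S)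
  map_one' := by
    rw [part_eq_one fun x _ => by simp [conjP_apply], map_one]
  map_mul' g k := by
    rw [Subgroup.coe_mul, conjP_mul, part_mul (fun x => hK g g.2 x) (fun x => hK k k.2 x), map_mul]

theorem centralizer_mem {a g : G} (ha : a ∈ D) (hg : Commute g a) : g ∈ Subgroup.closure (perp D a) := by
  classical
  by_contra hgH
  let _ : Fintype G := Fintype.ofFinite G
  have hG := good_of_primitive hD hprim ht.1
  obtain ⟨F, _, _, hF, ⟨e⟩⟩ := exists_equiv_of_type22 hD hprim ht ha
  let H : Subgroup G := Subgroup.closure (perp D a)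
  obtain ⟨g', hg', hg'H, μ, D₁, hμ, hD₁, hψ⟩ := exists_field hD hprim ht ha hg hgH hF e
  obtain ⟨W, hW, hWe, hgW, hgWH⟩ := notMem_of_field hD hprim ht ha hg' hF e hD₁ hψ
  obtain ⟨hT, hconj⟩ := image_tt hG ha (H := H) rfl e
  have hneH := (memberSet_nonempty hD hprim ht ha).image (quotMap e)
  set w : G := (W : G) with hw
  have hwD : w ∈ D := hW.1
  -- the sign on `perp a`
  have hinv : ∀ {b k : G}, Commute k b → ∀ x, k * x * k⁻¹ ∈ perp D b ↔ x ∈ perp D b :=
    fun {b k} hk x => conj_mem_perp_iff hD hk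
  have hone : ∀ k ∈ H, Equiv.Perm.sign (part (conjP k) (perp D a)) = 1 := by
    intro k hk
    have := isPerfect hD hprim ht ha
    have hmem : (⟨k, hk⟩ : H) ∈ commutator H := by
      rw [Group.IsPerfect.commutator_eq_top]; exact Subgroup.mem_top _
    exact Abelianization.commutator_subset_ker
      (sgnHom H (perp D a) fun g hg => hinv (commute_d (H := H) rfl hg).symm) hmem
  have hsame : ∀ k, Commute k a → k ∉ H →
      Equiv.Perm.sign (part (conjP k) (perp D a)) = Equiv.Perm.sign (part (conjP g') (perp D a)) := by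
    intro k hk hkH
    have h1 := hone _ (mul_mem_of_notMem hD hprim ht ha hg' hk hg'H hkH)
    rw [conjP_mul, part_mul (hinv hg'.inv_left) (hinv hk), map_mul] at h1
    have h2 : Equiv.Perm.sign (part (conjP g') (perp D a)) * Equiv.Perm.sign (part (conjP g'⁻¹) (perp D a)) = 1 := by
      rw [← map_mul, ← part_mul (hinv hg') (hinv hg'.inv_left), ← conjP_mul, mul_inv_cancel,
        part_eq_one fun x _ => by simp [conjP_apply], map_one]
    exact mul_left_cancel (h1.trans ((mul_comm _ _).trans h2).symm)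
  -- the sign on `perp w`
  obtain ⟨c, hc⟩ := hprim.1 a ha w hwD
  have hpw : Equiv.Perm.sign (part (conjP g') (perp D w)) = Equiv.Perm.sign (part (conjP g') (perp D a)) := by
    obtain ⟨k, hkdef⟩ : ∃ k, k = c⁻¹ * g' * c := ⟨_, rfl⟩
    have hka : Commute k a := by
      have h := (conj_commute_iff c⁻¹ g' w).2 hgW
      rwa [show c⁻¹ * w * c⁻¹⁻¹ = a by rw [← hc]; group, inv_inv, ← hkdef] at h
    have hkH : k ∉ H := by
      intro hk
      have hmap : H.map (MulAut.conj c).toMonoidHom ≤ Subgroup.closure (perp D w) := by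
        rw [MonoidHom.map_closure]
        refine Subgroup.closure_mono ?_
        rintro _ ⟨y, hy, rfl⟩
        rw [← hc]
        exact CfsgLib.InvChar.FischerHexad.perp_conj hD c hy
      have h2 := hmap ⟨k, hk, rfl⟩
      rw [show (MulAut.conj c).toMonoidHom k = g' by simp [hkdef, MulAut.conj_apply, mul_assoc]] at h2
      exact hgWH h2
    have hperp : ∀ x, c * x * c⁻¹ ∈ perp D w ↔ x ∈ perp D a := by
      intro x
      rw [← hc]
      constructor
      · intro h
        have := CfsgLib.InvChar.FischerHexad.perp_conj hD c⁻¹ h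
        simpa [MulAut.conj_apply, mul_assoc] using this
      · exact fun h => CfsgLib.InvChar.FischerHexad.perp_conj hD c h
    have heq : part (conjP g') (perp D w) = conjP c * part (conjP k) (perp D a) * (conjP c)⁻¹ := by
      refine Equiv.ext fun x => ?_
      obtain ⟨y, rfl⟩ := (conjP c).surjective x
      rw [Equiv.Perm.mul_apply, Equiv.Perm.mul_apply, Equiv.Perm.inv_def, Equiv.symm_apply_apply]
      by_cases hy : y ∈ perp D a
      · have hcy : conjP c y ∈ perp D w := (hperp y).2 hy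
        rw [part_apply_of_mem (f := conjP k) (fun x => hinv hka x) hy,
          part_apply_of_mem (f := conjP g') (fun x => hinv hgW x) hcy]
        simp [conjP_apply, hkdef, mul_assoc]
      · have hcy : conjP c y ∉ perp D w := fun h => hy ((hperp y).1 h)
        rw [part_apply_of_notMem hy, part_apply_of_notMem hcy]
    rw [heq, map_mul, map_mul, map_inv, mul_comm (Equiv.Perm.sign (conjP c)), mul_inv_cancel_right]
    exact hsame k hka hkH
  -- the sign on the whole class
  have hDinv : ∀ k : G, ∀ x, conjP k x ∈ D ↔ x ∈ D := fun k x => conj_iff hD k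
  have hsD : Equiv.Perm.sign (part (conjP g') D) = 1 := by
    let f : G →* ℤˣ :=
      { toFun := fun k => Equiv.Perm.sign (part (conjP k) D)
        map_one' := by rw [part_eq_one fun x _ => by simp [conjP_apply], map_one]
        map_mul' := fun k l => by rw [conjP_mul, part_mul (hDinv k) (hDinv l), map_mul] }
    have hmem : g' ∈ commutator G := commutator_eq_top hD hprim ht ▸ Subgroup.mem_top g'
    exact Abelianization.commutator_subset_ker f hmem
  -- the decomposition
  have haw : a ∈ perp D w := ⟨ha, fun k => hW.2.1 k.symm, hW.2.2.symm⟩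
  let C : Set G := perp D a ∩ perp D w
  let Y : Set G := {y | y ∈ D ∧ ¬ Commute a y ∧ ¬ Commute w y}
  have hiC : ∀ x, conjP g' x ∈ C ↔ x ∈ C := fun x => and_congr (hinv hg' x) (hinv hgW x)
  have hcm : ∀ {k b : G} (x : G), Commute k b → (Commute b (k * x * k⁻¹) ↔ Commute b x) := by
    intro k b x hk
    conv_lhs => rw [show b = k * b * k⁻¹ by rw [hk.eq, mul_inv_cancel_right]]
    exact conj_commute_iff k b x
  have hiY : ∀ k, Commute k a → Commute k w → ∀ x, conjP k x ∈ Y ↔ x ∈ Y := fun k h1 h2 x =>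
    and_congr (conj_iff hD k) (and_congr (not_congr (hcm x h1)) (not_congr (hcm x h2)))
  have hiP : ∀ x, conjP g' x ∈ perp D a ↔ x ∈ perp D a := hinv hg'
  have hiQ : ∀ x, conjP g' x ∈ perp D w ↔ x ∈ perp D w := hinv hgW
  have hiR : ∀ x, conjP g' x ∈ perp D w \ perp D a ↔ x ∈ perp D w \ perp D a := fun x =>
    and_congr (hiQ x) (not_congr (hiP x))
  have hDeq : D = (perp D a ∪ (perp D w \ perp D a)) ∪ Y := by
    ext x
    constructor
    · intro hx
      by_cases h1 : Commute a x
      · by_cases h2 : x = a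
        · subst h2; exact Or.inl (Or.inr ⟨haw, fun k => k.2.1 rfl⟩)
        · exact Or.inl (Or.inl ⟨hx, h2, h1⟩)
      · by_cases h2 : Commute w x
        · refine Or.inl (Or.inr ⟨⟨hx, fun k => h1 (k ▸ hW.2.2), h2⟩, fun k => h1 k.2.2⟩)
        · exact Or.inr ⟨hx, h1, h2⟩
    · rintro ((h | h) | h)
      · exact h.1
      · exact h.1.1
      · exact h.1
  have hQeq : perp D w = C ∪ (perp D w \ perp D a) := by
    ext x
    constructor
    · intro hx
      by_cases h : x ∈ perp D a
      · exact Or.inl ⟨h, hx⟩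
      · exact Or.inr ⟨hx, h⟩
    · rintro (h | h) <;> [exact h.2; exact h.1]
  have hsY : Equiv.Perm.sign (part (conjP g') Y) = 1 := by
    let _ : DecidablePred (· ∈ Y) := fun y => Classical.propDecidable _
    rw [part, dif_pos (hiY g' hg' hgW)]
    refine (Equiv.Perm.sign_ofSubtype _).trans ?_
    have hwa : Commute w a := hW.2.2.symm
    have hsq : ∀ {b : G} (hb : b ∈ D) (hba : Commute b a) (hbw : Commute b w),
        (conjP b).subtypePerm (hiY b hba hbw) * (conjP b).subtypePerm (hiY b hba hbw) = 1 := by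
      intro b hb hba hbw
      refine Equiv.ext fun x => Subtype.ext ?_
      show b * (b * x * b⁻¹) * b⁻¹ = x
      rw [inv_eq hD.1 hb, show b * (b * (x : G) * b) * b = (b * b) * x * (b * b) by group,
        sq_eq_one hD.1 hb, one_mul, mul_one]
    have hcw : ∀ {k l : G} (h1 : Commute k a) (h2 : Commute k w) (h3 : Commute l a) (h4 : Commute l w),
        Commute k l → Commute ((conjP k).subtypePerm (hiY k h1 h2)) ((conjP l).subtypePerm (hiY l h3 h4)) := by
      intro k l h1 h2 h3 h4 hkl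
      refine Equiv.ext fun x => Subtype.ext ?_
      show k * (l * x * l⁻¹) * k⁻¹ = l * (k * x * k⁻¹) * l⁻¹
      rw [show k * (l * (x : G) * l⁻¹) * k⁻¹ = k * l * x * (k * l)⁻¹ by group, hkl.eq]
      group
    refine sign_eq_one_of_free (hsq ha (Commute.refl a) hwa.symm) (hsq hwD hwa (Commute.refl w))
      (hcw (Commute.refl a) hwa.symm hwa (Commute.refl w) hwa.symm) (hcw hg' hgW (Commute.refl a) hwa.symm hg')
      (hcw hg' hgW hwa (Commute.refl w) hgW) ?_ ?_ ?_
    · intro x h
      have h1 : a * (x : G) * a⁻¹ = x := congrArg Subtype.val h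
      exact x.2.2.1 (mul_inv_eq_iff_eq_mul.1 h1)
    · intro x h
      have h1 : w * (x : G) * w⁻¹ = x := congrArg Subtype.val h
      exact x.2.2.2 (mul_inv_eq_iff_eq_mul.1 h1)
    · intro x h
      have h1 : a * (w * (x : G) * w⁻¹) * a⁻¹ = x := congrArg Subtype.val h
      have h2 : Commute (x : G) [a, w].prod := by
        rw [List.prod_cons, List.prod_cons, List.prod_nil, mul_one]
        refine (mul_inv_eq_iff_eq_mul.1 ?_ : a * w * (x : G) = x * (a * w)).symm
        calc a * w * (x : G) * (a * w)⁻¹ = a * (w * (x : G) * w⁻¹) * a⁻¹ := by group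
          _ = x := h1
      rcases weight hD.1 x.2.1 (l := [a, w])
        (fun y hy => by
          simp only [List.mem_cons, List.not_mem_nil, or_false] at hy
          rcases hy with rfl | rfl <;> assumption)
        (by simpa using Ne.symm hW.2.1)
        (fun y hy z hz => by
          simp only [List.mem_cons, List.not_mem_nil, or_false] at hy hz
          rcases hy with rfl | rfl <;> rcases hz with rfl | rfl <;>
            first | exact Commute.refl _ | exact hwa | exact hwa.symm) h2 with k | ⟨L, hL, h4, -⟩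
      · exact x.2.2.1 (k a (by simp)).symm
      · have := hL.length_le
        simp at this
        omega
  -- the common part
  have hval : (Subtype.val : H → G) '' (memberSet D a H ∩ quotMap e ⁻¹' ring' hF) = C := by
    ext x
    constructor
    · rintro ⟨y, ⟨hy, r, hr, hrv, hrs, hre⟩, rfl⟩
      refine ⟨hy, hy.1, fun k => ?_, ?_⟩
      · rw [show y = W from Subtype.ext k, hWe] at hre
        obtain ⟨q, hq⟩ := pv_eq_span hF (by norm_num) hr (herm_plane hF ..)
          (fun k => hrs 0 (by rw [k, zero_smul])) hre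
        exact hrs q hq
      · refine (commute_of_quotMap hG ha (H := H) rfl e hy hW ?_).symm
        rw [← hre, hWe]
        exact (tv_commute hF hr (herm_plane hF ..) hrv).map (QuotientGroup.mk' _)
    · rintro ⟨hxa, hxw⟩
      let y : H := ⟨x, Subgroup.subset_closure hxa⟩
      obtain ⟨r, hr, hr0, hre⟩ := exists_pv_of_mem hF (by norm_num) hT hconj ⟨y, hxa, rfl⟩
      refine ⟨y, ⟨hxa, r, hr, ?_, fun q hq => ?_, hre.symm⟩, rfl⟩
      · refine herm_eq_zero_of_commute hF (by norm_num) hr (herm_plane hF ..) ?_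
        rw [← hre, ← hWe]
        exact (show Commute y W from Subtype.ext hxw.2.2.symm.eq).map _
      · refine hxw.2.1 (congrArg Subtype.val (quotMap_inj hG ha (H := H) rfl e (x := y) hxa hW ?_))
        have hq0 : q ≠ 0 := fun k => hr0 (by rw [hq, k, zero_smul])
        rw [hre, hWe]
        exact (pv_congr hF hr (by rw [← hq]; exact hr) hq).trans (pv_smul hF hq0 (herm_plane hF ..) _)
  have hring : ∀ p ∈ ring' hF, ∃ y ∈ memberSet D a H, quotMap e y = p := by
    rintro p ⟨r, hr, -, hrs, rfl⟩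
    exact pv_mem hF (by norm_num) hT hconj hneH hr fun k => hrs 0 (by rw [k, zero_smul])
  have hcount : ∀ S : Set (Cfsg.PSU 6 F 2), S ⊆ ring' hF →
      ((Subtype.val : H → G) '' (memberSet D a H ∩ quotMap e ⁻¹' S)).ncard = S.ncard := by
    intro S hS
    rw [Set.ncard_image_of_injective _ Subtype.val_injective,
      ← Set.InjOn.ncard_image (f := quotMap e) (fun x hx y hy h => quotMap_inj hG ha (H := H) rfl e hx.1 hy.1 h),
      Set.image_inter_preimage]
    congr 1
    ext p
    exact ⟨fun h => h.2, fun h => ⟨hring p (hS h), h⟩⟩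
  have hψ' : ∀ y : H, y ∈ memberSet D a H →
      (PSUAut.semiAut D₁ (frob hF) (quotMap e y) = quotMap e y ↔ conjP g' (y : G) = y) := by
    intro y hy
    rw [hψ y]
    exact ⟨fun k => congrArg Subtype.val
      (quotMap_inj hG ha (H := H) rfl e ((conj_mem_perp_iff hD hg').2 hy) hy k),
      fun k => congrArg (quotMap e) (Subtype.ext k)⟩
  have hsq : ∀ x ∈ C, conjP g' (conjP g' x) = x := by
    intro x hx
    let y : H := ⟨x, Subgroup.subset_closure hx.1⟩
    let y₁ : H := ⟨g' * x * g'⁻¹, conj_mem_closure_perp hD hg' y.2⟩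
    let y₂ : H := ⟨g' * (g' * x * g'⁻¹) * g'⁻¹, conj_mem_closure_perp hD hg' y₁.2⟩
    obtain ⟨r, hr, hr0, hre⟩ := exists_pv_of_mem hF (by norm_num) hT hconj ⟨y, hx.1, rfl⟩
    refine congrArg Subtype.val (quotMap_inj hG ha (H := H) rfl e (x := y₂) (y := y)
      ((conj_mem_perp_iff hD hg').2 ((conj_mem_perp_iff hD hg').2 hx.1)) hx.1 ?_)
    show quotMap e y₂ = quotMap e y
    rw [← hψ y₁, ← hψ y, hre, semiAut_pv, semiAut_pv]
    refine pv_congr hF _ _ ?_
    rw [move_diag hD₁, move_diag hD₁]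
    have hμ2 : μ * (frob hF μ) = 1 := norm_eq_one hF hμ
    funext i
    fin_cases i <;> simp [frob_apply, (conj hF).invol] <;>
      rw [← mul_assoc, ← frob_apply hF μ, hμ2, one_mul]
  have hsC : Equiv.Perm.sign (part (conjP g') C) = -1 := by
    refine sign_part_eq_neg_one hiC hsq ?_
    have h1 : C.ncard = 180 := by rw [← hval, hcount _ subset_rfl, ncard_ring]
    have h2 : {x ∈ C | conjP g' x = x}.ncard = 14 := by
      have himg : {x ∈ C | conjP g' x = x} = (Subtype.val : H → G) '' (memberSet D a H ∩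
          quotMap e ⁻¹' {p ∈ ring' hF | PSUAut.semiAut D₁ (frob hF) p = p}) := by
        ext x
        constructor
        · rintro ⟨hx, hfix⟩
          obtain ⟨y, ⟨hy, hyr⟩, rfl⟩ := hval.symm ▸ hx
          exact ⟨y, ⟨hy, hyr, (hψ' y hy).2 hfix⟩, rfl⟩
        · rintro ⟨y, ⟨hy, hyr, hfix⟩, rfl⟩
          exact ⟨hval ▸ ⟨y, ⟨hy, hyr⟩, rfl⟩, (hψ' y hy).1 hfix⟩
      rw [himg, hcount _ (fun p hp => hp.1), ncard_fixed hF hμ hD₁]
    rw [h1, h2]
    decide
  have hd1 : Disjoint (perp D a ∪ (perp D w \ perp D a)) Y := by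
    rw [Set.disjoint_left]
    rintro x (h | h) hY
    · exact hY.2.1 h.2.2
    · exact hY.2.2 h.1.2.2
  have hU : ∀ x, conjP g' x ∈ perp D a ∪ (perp D w \ perp D a) ↔ x ∈ perp D a ∪ (perp D w \ perp D a) :=
    fun x => or_congr (hiP x) (hiR x)
  rw [hDeq, part_union hU (hiY g' hg' hgW) hd1, map_mul, hsY, mul_one,
    part_union hiP hiR Set.disjoint_sdiff_right, map_mul] at hsD
  rw [hQeq, part_union hiC hiR (Set.disjoint_left.2 fun x h1 h2 => h2.2 h1.1), map_mul, hsC] at hpw
  rw [← hpw, mul_assoc, Int.units_mul_self, mul_one] at hsD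
  exact absurd hsD (by decide)

/-- The centralizer of a member is its local group. -/
theorem centralizer_eq_closure {d : G} (hd : d ∈ D) :
    Subgroup.centralizer ({d} : Set G) = Subgroup.closure (perp D d) := by
  refine le_antisymm (fun g hg => centralizer_mem hD hprim ht hd ?_) ((Subgroup.closure_le _).2 fun y hy =>
    Subgroup.mem_centralizer_singleton_iff.2 hy.2.2.symm.eq)
  exact Subgroup.mem_centralizer_singleton_iff.1 hg

end CfsgLib.Fischer.TypeTwentyTwo
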